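import Cfsg.Agent.Lib.Block.AbelianThreeInvolution
import Cfsg.Agent.Lib.Block.CentralizerBound

/-!
Sections of the principal block at an element whose centralizer has principal block inflated from
a quotient.
-/

open scoped ComplexConjugate

set_option autoImplicit false
set_option linter.unusedSectionVars false
set_option linter.style.haveILetI false

namespace Cfsg.Agent.Block.ElemEight

universe u

variable {G : Type u} [Group G] [Finite G] {p : ℕ} {M : Ideal AlgInt}

/-- Two columns of the principal block in one section against the centralizer. -/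
theorem principal_column_pair [Fact p.Prime] (hM : IsPModular p M) {z : G}
    (hz : ∃ k : ℕ, orderOf z = p ^ k) {y : Subgroup.centralizer ({z} : Set G)}
    (hy : ¬ p ∣ orderOf y) {y' : Subgroup.centralizer ({z} : Set G)} (hy' : ¬ p ∣ orderOf y') :
    ∑ᶠ ζ ∈ principalBlock M G, (ζ : G → ℂ) (z * (y : G)) * conj ((ζ : G → ℂ) (z * (y' : G))) =
      ∑ᶠ ξ ∈ principalBlock M (Subgroup.centralizer ({z} : Set G)),
        (ξ : Subgroup.centralizer ({z} : Set G) → ℂ) y *
          conj ((ξ : Subgroup.centralizer ({z} : Set G) → ℂ) y') := by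
  classical
  cases nonempty_fintype G
  cases nonempty_fintype (Subgroup.centralizer ({z} : Set G))
  obtain ⟨k, hk⟩ := hz
  have hP : IsPGroup p (Subgroup.zpowers z) :=
    IsPGroup.of_card (n := k) (by rw [Nat.card_zpowers, hk])
  have hdef : ∀ ξ : IrrCharacter (Subgroup.centralizer ({z} : Set G)), InducedBlockDefined M (Subgroup.centralizer ({z} : Set G)) (blockOf M (ξ : (Subgroup.centralizer ({z} : Set G)) → ℂ)) := fun ξ => by
    refine inducedBlockDefined_brauer hM hP (Subgroup.zpowers_le.2 (centralizer_self_mem z)) ?_ ?_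
      (isPBlock_blockOf ξ)
    · exact Subgroup.centralizer_le (Set.singleton_subset_iff.2 (Subgroup.mem_zpowers z))
    · intro c hc
      rw [Subgroup.mem_normalizer_iff]
      intro w
      have hcz : Commute c z := Subgroup.mem_centralizer_singleton_iff.1 hc
      constructor
      · intro hw
        obtain ⟨i, rfl⟩ := Subgroup.mem_zpowers_iff.1 hw
        rw [(hcz.zpow_right i).eq, mul_inv_cancel_right]
        exact hw
      · intro hw
        obtain ⟨i, hi⟩ := Subgroup.mem_zpowers_iff.1 hw
        have : w = z ^ i := by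
          have h2 := congrArg (fun t => c⁻¹ * t * c) hi
          simp only [← mul_assoc, inv_mul_cancel, one_mul, inv_mul_cancel_right] at h2
          rw [← h2, mul_assoc, ← (hcz.zpow_right i).eq, inv_mul_cancel_left]
        exact this ▸ Subgroup.zpow_mem _ (Subgroup.mem_zpowers z) i
  have hfilter : (Finset.univ.filter fun ξ : IrrCharacter (Subgroup.centralizer ({z} : Set G)) =>
      IsInducedBlock M (Subgroup.centralizer ({z} : Set G)) (blockOf M (ξ : (Subgroup.centralizer ({z} : Set G)) → ℂ)) (principalBlock M G)) =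
      Finset.univ.filter (fun ξ : IrrCharacter (Subgroup.centralizer ({z} : Set G)) => ξ ∈ principalBlock M (Subgroup.centralizer ({z} : Set G))) := by
    ext ξ
    simp only [Finset.mem_filter, Finset.mem_univ, true_and]
    rw [principal_third_main hM (hdef ξ)]
    exact ⟨fun h => h ▸ mem_blockOf_self hM ξ,
      fun h => (pblock_eq_blockOf hM isPBlock_principalBlock h).symm⟩
  have hexp : ∀ χ : IrrCharacter G,
      ∑ ξ ∈ Finset.univ.filter (fun ξ : IrrCharacter (Subgroup.centralizer ({z} : Set G)) => ξ ∈ principalBlock M (Subgroup.centralizer ({z} : Set G))),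
        classInner (fun c : (Subgroup.centralizer ({z} : Set G)) => (χ : G → ℂ) (z * (c : G))) (ξ : (Subgroup.centralizer ({z} : Set G)) → ℂ) * (ξ : (Subgroup.centralizer ({z} : Set G)) → ℂ) y =
      if χ ∈ principalBlock M G then (χ : G → ℂ) (z * (y : G)) else 0 := fun χ => by
    rw [← hfilter]
    exact value_eq_sum_inducing hM ⟨k, hk⟩ isPBlock_principalBlock hy χ
  rw [finsum_mem_block, finsum_mem_block, Finset.sum_filter]
  calc ∑ χ : IrrCharacter G, (if χ ∈ principalBlock M G then
          (χ : G → ℂ) (z * (y : G)) * conj ((χ : G → ℂ) (z * (y' : G))) else 0)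
      = ∑ χ : IrrCharacter G,
          (∑ ξ ∈ Finset.univ.filter (fun ξ : IrrCharacter (Subgroup.centralizer ({z} : Set G)) => ξ ∈ principalBlock M (Subgroup.centralizer ({z} : Set G))),
            classInner (fun c : (Subgroup.centralizer ({z} : Set G)) => (χ : G → ℂ) (z * (c : G))) (ξ : (Subgroup.centralizer ({z} : Set G)) → ℂ) * (ξ : (Subgroup.centralizer ({z} : Set G)) → ℂ) y) *
              conj ((χ : G → ℂ) (z * (y' : G))) := by
        refine Finset.sum_congr rfl fun χ _ => ?_
        rw [hexp χ, ite_mul, zero_mul]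
    _ = (Nat.card (Subgroup.centralizer ({z} : Set G)) : ℂ)⁻¹ * ∑ c : (Subgroup.centralizer ({z} : Set G)),
          (∑ χ : IrrCharacter G, (χ : G → ℂ) (z * (c : G)) * conj ((χ : G → ℂ) (z * (y' : G)))) *
          ∑ ξ ∈ Finset.univ.filter (fun ξ : IrrCharacter (Subgroup.centralizer ({z} : Set G)) => ξ ∈ principalBlock M (Subgroup.centralizer ({z} : Set G))),
            (ξ : (Subgroup.centralizer ({z} : Set G)) → ℂ) y * conj ((ξ : (Subgroup.centralizer ({z} : Set G)) → ℂ) c) := by
        simp only [classInner, Finset.sum_mul]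
        simp only [Finset.mul_sum, Finset.sum_mul]
        rw [Finset.sum_comm_cycle]
        refine Finset.sum_congr rfl fun c _ => ?_
        refine Finset.sum_congr rfl fun χ _ => Finset.sum_congr rfl fun ξ _ => ?_
        ring
    _ = _ := ?_
  set R := ∑ ξ ∈ Finset.univ.filter (fun ξ : IrrCharacter (Subgroup.centralizer ({z} : Set G)) => ξ ∈ principalBlock M (Subgroup.centralizer ({z} : Set G))),
    (ξ : (Subgroup.centralizer ({z} : Set G)) → ℂ) y * conj ((ξ : (Subgroup.centralizer ({z} : Set G)) → ℂ) y') with hR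
  have hcardeq : Nat.card (Subgroup.centralizer ({z * (y' : G)} : Set G)) =
      Nat.card (Subgroup.centralizer ({y'} : Set (Subgroup.centralizer ({z} : Set G)))) := by
    have hcomm : Commute z (y' : G) := (Subgroup.mem_centralizer_singleton_iff.1 y'.2 : (y' : G) * z = z * y').symm
    have hzmem : z ∈ Subgroup.zpowers (z * (y' : G)) := mem_zpowers_of_pPart (p := p)
      ⟨(y' : G), rfl, hcomm, ⟨k, hk⟩, by rwa [Subgroup.orderOf_coe]⟩
    have hfwd : ∀ g : G, g ∈ Subgroup.centralizer ({z * (y' : G)} : Set G) →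
        g * z = z * g ∧ g * y' = y' * g := fun g hg => by
      have hg' : Commute g (z * (y' : G)) := Subgroup.mem_centralizer_singleton_iff.1 hg
      obtain ⟨i, hi⟩ := Subgroup.mem_zpowers_iff.1 hzmem
      have h1 : Commute g z := hi ▸ hg'.zpow_right i
      refine ⟨h1.eq, ?_⟩
      have := (h1.inv_right.mul_right hg').eq
      simpa using this
    exact Nat.card_congr
      { toFun := fun g => ⟨⟨g.1, Subgroup.mem_centralizer_singleton_iff.2 (hfwd g.1 g.2).1⟩,
          Subgroup.mem_centralizer_singleton_iff.2 (Subtype.ext (hfwd g.1 g.2).2)⟩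
        invFun := fun t => ⟨(t.1 : G), Subgroup.mem_centralizer_singleton_iff.2 (by
          have h1 : Commute (t.1 : G) z := Subgroup.mem_centralizer_singleton_iff.1 t.1.2
          have h2 : Commute (t.1 : G) (y' : G) :=
            congrArg Subtype.val (Subgroup.mem_centralizer_singleton_iff.1 t.2)
          exact (h1.mul_right h2).eq)⟩
        left_inv := fun g => rfl
        right_inv := fun t => rfl }
  have hcol : ∀ c : (Subgroup.centralizer ({z} : Set G)),
      (∑ χ : IrrCharacter G, (χ : G → ℂ) (z * (c : G)) * conj ((χ : G → ℂ) (z * (y' : G)))) *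
        ∑ ξ ∈ Finset.univ.filter (fun ξ : IrrCharacter (Subgroup.centralizer ({z} : Set G)) => ξ ∈ principalBlock M (Subgroup.centralizer ({z} : Set G))),
          (ξ : (Subgroup.centralizer ({z} : Set G)) → ℂ) y * conj ((ξ : (Subgroup.centralizer ({z} : Set G)) → ℂ) c) =
      (∑ η : IrrCharacter (Subgroup.centralizer ({z} : Set G)), (η : (Subgroup.centralizer ({z} : Set G)) → ℂ) c * conj ((η : (Subgroup.centralizer ({z} : Set G)) → ℂ) y')) * R := by
    intro c
    rw [Cfsg.Agent.Char.sum_irr_mul_conj, Cfsg.Agent.Char.sum_irr_mul_conj]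
    by_cases hc : IsConj c y'
    · have : IsConj (z * (c : G)) (z * (y' : G)) := by
        obtain ⟨t, ht⟩ := isConj_iff.1 hc
        refine isConj_iff.2 ⟨(t : G), ?_⟩
        have htz : (t : G) * z = z * t := Subgroup.mem_centralizer_singleton_iff.1 t.2
        rw [← ht, Subgroup.coe_mul, Subgroup.coe_mul, Subgroup.coe_inv, ← mul_assoc, htz]
        simp only [mul_assoc]
      rw [if_pos hc, if_pos this, hcardeq]
      congr 1
      refine Finset.sum_congr rfl fun ξ _ => ?_
      rw [Cfsg.Agent.Char.IsClass.eq_of_isConj (irr_classFun ξ) hc]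
    · rw [if_neg hc, zero_mul]
      by_cases hcreg : p ∣ orderOf c
      · have := weak_orth hM (isPBlock_principalBlock (G := (Subgroup.centralizer ({z} : Set G)))) hy hcreg
        rw [finsum_mem_block] at this
        rw [this, mul_zero]
      · rw [if_neg, zero_mul]
        intro hconj
        obtain ⟨g, hg⟩ := isConj_iff.1 hconj
        have hcomm : ∀ t : (Subgroup.centralizer ({z} : Set G)), Commute z (t : G) := fun t =>
          (Subgroup.mem_centralizer_singleton_iff.1 t.2 : (t : G) * z = z * t).symm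
        have h1 : IsPPart p (z * (y' : G)) (g * z * g⁻¹) := by
          refine ⟨g * c * g⁻¹, by rw [← hg]; group, ?_, ⟨k, ?_⟩, ?_⟩
          · exact (hcomm c).map (MulAut.conj g).toMonoidHom
          · rw [show g * z * g⁻¹ = MulAut.conj g z from rfl, MulEquiv.orderOf_eq, hk]
          · rw [show g * (c : G) * g⁻¹ = MulAut.conj g (c : G) from rfl, MulEquiv.orderOf_eq,
              Subgroup.orderOf_coe]
            exact hcreg
        have h2 : IsPPart p (z * (y' : G)) z :=
          ⟨y', rfl, hcomm y', ⟨k, hk⟩, by rwa [Subgroup.orderOf_coe]⟩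
        have hgz := pPart_unique h1 h2
        have hgC : g ∈ (Subgroup.centralizer ({z} : Set G)) := Subgroup.mem_centralizer_singleton_iff.2 (mul_inv_eq_iff_eq_mul.1 hgz)
        refine hc (isConj_iff.2 ⟨⟨g, hgC⟩, Subtype.ext ?_⟩)
        show g * (c : G) * g⁻¹ = y'
        refine mul_left_cancel (a := z) (Eq.trans ?_ hg)
        calc z * (g * (c : G) * g⁻¹) = g * z * g⁻¹ * (g * c * g⁻¹) := by rw [hgz]
          _ = g * (z * c) * g⁻¹ := by group
  rw [Finset.sum_congr rfl fun c _ => hcol c, ← Finset.sum_mul, Finset.sum_comm,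
    Finset.sum_eq_single (trivialIrr (Subgroup.centralizer ({z} : Set G)))]
  · simp only [trivialIrr, map_one, mul_one, Finset.sum_const, Finset.card_univ, nsmul_eq_mul,
      ← Nat.card_eq_fintype_card]
    rw [← mul_assoc, inv_mul_cancel₀ (Nat.cast_ne_zero.2 Nat.card_pos.ne'), one_mul]
  · intro η _ hη
    have h := Cfsg.Agent.Char.classInner_irr_ne η.2 Cfsg.Agent.Char.isIrr_one
      fun h => hη (Subtype.ext h)
    rw [classInner, mul_eq_zero] at h
    rcases h with h | h
    · simp [Nat.card_pos.ne'] at h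
    · rw [← Finset.sum_mul]
      simp only [map_one, mul_one] at h
      rw [h, zero_mul]
  · exact fun h => absurd (Finset.mem_univ _) h

/-- The principal block column sum of a group whose principal block is inflated from a quotient. -/
theorem principal_sum_quotient {X : Type u} [Group X] [Finite X] {N : Subgroup X} [N.Normal]
    (hN : ∀ χ : IrrCharacter X, χ ∈ principalBlock M X ↔
      ∀ k ∈ N, (χ : X → ℂ) k = (χ : X → ℂ) 1) (y y' : X) :
    ∑ᶠ ξ ∈ principalBlock M X, (ξ : X → ℂ) y * conj ((ξ : X → ℂ) y') =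
      (open Classical in if IsConj (y : X ⧸ N) (y' : X ⧸ N) then
        (Nat.card (Subgroup.centralizer ({(y' : X ⧸ N)} : Set (X ⧸ N))) : ℂ) else 0) := by
  classical
  cases nonempty_fintype X
  rw [finsum_mem_block, Finset.sum_subtype _ (p := fun χ : IrrCharacter X =>
      ∀ k ∈ N, (χ : X → ℂ) k = (χ : X → ℂ) 1) (fun χ => by simp [hN χ]),
    ← Equiv.sum_comp (CentralizerBound.inflEquiv N)]
  simp only [CentralizerBound.inflEquiv_apply]
  exact Cfsg.Agent.Char.sum_irr_mul_conj _ _

variable {z : G}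

/-- A character of the principal block takes equal values on congruent regular elements of a
section. -/
theorem principal_value_congr [Fact p.Prime] (hM : IsPModular p M) (hz : ∃ k : ℕ, orderOf z = p ^ k)
    {N : Subgroup (Subgroup.centralizer ({z} : Set G))} [N.Normal] (hN : ∀ χ : IrrCharacter (Subgroup.centralizer ({z} : Set G)), χ ∈ principalBlock M (Subgroup.centralizer ({z} : Set G)) ↔
      ∀ k ∈ N, (χ : (Subgroup.centralizer ({z} : Set G)) → ℂ) k = (χ : (Subgroup.centralizer ({z} : Set G)) → ℂ) 1) {y y' : (Subgroup.centralizer ({z} : Set G))} (hy : ¬ p ∣ orderOf y)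
    (hy' : ¬ p ∣ orderOf y') (hyy : (y : (Subgroup.centralizer ({z} : Set G)) ⧸ N) = (y' : (Subgroup.centralizer ({z} : Set G)) ⧸ N)) {χ : IrrCharacter G}
    (hχ : χ ∈ principalBlock M G) : (χ : G → ℂ) (z * (y : G)) = (χ : G → ℂ) (z * (y' : G)) := by
  classical
  cases nonempty_fintype G
  obtain ⟨k, hk⟩ := hz
  have hP : IsPGroup p (Subgroup.zpowers z) :=
    IsPGroup.of_card (n := k) (by rw [Nat.card_zpowers, hk])
  have h1 := value_eq_sum_inducing hM ⟨k, hk⟩ isPBlock_principalBlock hy χ
  have h2 := value_eq_sum_inducing hM ⟨k, hk⟩ isPBlock_principalBlock hy' χ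
  rw [if_pos hχ] at h1 h2
  rw [← h1, ← h2]
  refine Finset.sum_congr rfl fun ξ hξ => ?_
  have hdef : InducedBlockDefined M (Subgroup.centralizer ({z} : Set G)) (blockOf M (ξ : (Subgroup.centralizer ({z} : Set G)) → ℂ)) := by
    refine inducedBlockDefined_brauer hM hP (Subgroup.zpowers_le.2 (centralizer_self_mem z)) ?_ ?_
      (isPBlock_blockOf ξ)
    · exact Subgroup.centralizer_le (Set.singleton_subset_iff.2 (Subgroup.mem_zpowers z))
    · intro c hc
      have hcz : Commute c z := Subgroup.mem_centralizer_singleton_iff.1 hc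
      rw [Subgroup.mem_normalizer_iff]
      intro w
      constructor
      · intro hw
        obtain ⟨i, rfl⟩ := Subgroup.mem_zpowers_iff.1 hw
        rw [(hcz.zpow_right i).eq, mul_inv_cancel_right]
        exact hw
      · intro hw
        obtain ⟨i, hi⟩ := Subgroup.mem_zpowers_iff.1 hw
        have : w = z ^ i := by
          calc w = c⁻¹ * (c * w * c⁻¹) * c := by group
            _ = c⁻¹ * z ^ i * c := by rw [hi]
            _ = z ^ i := by rw [mul_assoc, ← (hcz.zpow_right i).eq, inv_mul_cancel_left]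
        exact this ▸ Subgroup.zpow_mem _ (Subgroup.mem_zpowers z) i
  have hξ' : ξ ∈ principalBlock M (Subgroup.centralizer ({z} : Set G)) := by
    have h := (principal_third_main hM hdef).1 (Finset.mem_filter.1 hξ).2
    exact h ▸ mem_blockOf_self hM ξ
  obtain ⟨ψ, -, he⟩ := Cfsg.Agent.Char.IsIrr.exists_factor_quotient ξ.2 N ((hN ξ).1 hξ')
  rw [← he y, ← he y', hyy]

/-- The column of two elements of a section. -/
theorem section_column [Fact p.Prime] (hM : IsPModular p M) (hz : ∃ k : ℕ, orderOf z = p ^ k)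
    {N : Subgroup (Subgroup.centralizer ({z} : Set G))} [N.Normal] (hN : ∀ χ : IrrCharacter (Subgroup.centralizer ({z} : Set G)), χ ∈ principalBlock M (Subgroup.centralizer ({z} : Set G)) ↔
      ∀ k ∈ N, (χ : (Subgroup.centralizer ({z} : Set G)) → ℂ) k = (χ : (Subgroup.centralizer ({z} : Set G)) → ℂ) 1) {y y' : (Subgroup.centralizer ({z} : Set G))} (hy : ¬ p ∣ orderOf y)
    (hy' : ¬ p ∣ orderOf y') :
    ∑ᶠ χ ∈ principalBlock M G, (χ : G → ℂ) (z * (y : G)) * conj ((χ : G → ℂ) (z * (y' : G))) =
      (open Classical in if IsConj (y : (Subgroup.centralizer ({z} : Set G)) ⧸ N) (y' : (Subgroup.centralizer ({z} : Set G)) ⧸ N) then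
        (Nat.card (Subgroup.centralizer ({(y' : (Subgroup.centralizer ({z} : Set G)) ⧸ N)} : Set ((Subgroup.centralizer ({z} : Set G)) ⧸ N))) : ℂ) else 0) := by
  rw [principal_column_pair hM hz hy hy', principal_sum_quotient hN]

/-- Projection to the principal block of a class function vanishing on a section. -/
theorem principal_project_eq_zero [Fact p.Prime] [Fintype (IrrCharacter G)] (hM : IsPModular p M) (hz : ∃ k : ℕ, orderOf z = p ^ k)
    {N : Subgroup (Subgroup.centralizer ({z} : Set G))} [N.Normal] (hN : ∀ χ : IrrCharacter (Subgroup.centralizer ({z} : Set G)), χ ∈ principalBlock M (Subgroup.centralizer ({z} : Set G)) ↔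
      ∀ k ∈ N, (χ : (Subgroup.centralizer ({z} : Set G)) → ℂ) k = (χ : (Subgroup.centralizer ({z} : Set G)) → ℂ) 1) {y : (Subgroup.centralizer ({z} : Set G))} (hy : ¬ p ∣ orderOf y)
    (a : IrrCharacter G → ℂ)
    (hvan : ∀ c : (Subgroup.centralizer ({z} : Set G)), ¬ p ∣ orderOf c → IsConj (y : (Subgroup.centralizer ({z} : Set G)) ⧸ N) (c : (Subgroup.centralizer ({z} : Set G)) ⧸ N) →
      ∑ χ : IrrCharacter G, a χ * (χ : G → ℂ) (z * (c : G)) = 0) :
    ∑ᶠ χ ∈ principalBlock M G, a χ * (χ : G → ℂ) (z * (y : G)) = 0 := by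
  classical
  cases nonempty_fintype G
  obtain ⟨k, hk⟩ := hz
  set S := Finset.univ.filter (fun ξ : IrrCharacter (Subgroup.centralizer ({z} : Set G)) =>
    IsInducedBlock M (Subgroup.centralizer ({z} : Set G)) (blockOf M (ξ : (Subgroup.centralizer ({z} : Set G)) → ℂ)) (principalBlock M G))
  have hS : S = Finset.univ.filter (fun ξ : IrrCharacter (Subgroup.centralizer ({z} : Set G)) => ξ ∈ principalBlock M (Subgroup.centralizer ({z} : Set G))) := by
    ext ξ
    simp only [S, Finset.mem_filter, Finset.mem_univ, true_and]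
    have hP : IsPGroup p (Subgroup.zpowers z) :=
      IsPGroup.of_card (n := k) (by rw [Nat.card_zpowers, hk])
    have hdef : InducedBlockDefined M (Subgroup.centralizer ({z} : Set G)) (blockOf M (ξ : (Subgroup.centralizer ({z} : Set G)) → ℂ)) := by
      refine inducedBlockDefined_brauer hM hP (Subgroup.zpowers_le.2 (centralizer_self_mem z)) ?_ ?_
        (isPBlock_blockOf ξ)
      · exact Subgroup.centralizer_le (Set.singleton_subset_iff.2 (Subgroup.mem_zpowers z))
      · intro c hc
        have hcz : Commute c z := Subgroup.mem_centralizer_singleton_iff.1 hc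
        rw [Subgroup.mem_normalizer_iff]
        intro w
        constructor
        · intro hw
          obtain ⟨i, rfl⟩ := Subgroup.mem_zpowers_iff.1 hw
          rw [(hcz.zpow_right i).eq, mul_inv_cancel_right]
          exact hw
        · intro hw
          obtain ⟨i, hi⟩ := Subgroup.mem_zpowers_iff.1 hw
          have : w = z ^ i := by
            calc w = c⁻¹ * (c * w * c⁻¹) * c := by group
              _ = c⁻¹ * z ^ i * c := by rw [hi]
              _ = z ^ i := by rw [mul_assoc, ← (hcz.zpow_right i).eq, inv_mul_cancel_left]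
          exact this ▸ Subgroup.zpow_mem _ (Subgroup.mem_zpowers z) i
    rw [principal_third_main hM hdef]
    exact ⟨fun h => h ▸ mem_blockOf_self hM ξ,
      fun h => (pblock_eq_blockOf hM isPBlock_principalBlock h).symm⟩
  set Φ := fun c : (Subgroup.centralizer ({z} : Set G)) => ∑ ξ ∈ S, conj ((ξ : (Subgroup.centralizer ({z} : Set G)) → ℂ) c) * (ξ : (Subgroup.centralizer ({z} : Set G)) → ℂ) y
  have hval : ∀ χ : IrrCharacter G,
      (Nat.card (Subgroup.centralizer ({z} : Set G)) : ℂ)⁻¹ * ∑ c : (Subgroup.centralizer ({z} : Set G)), (χ : G → ℂ) (z * (c : G)) * Φ c =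
        if χ ∈ principalBlock M G then (χ : G → ℂ) (z * (y : G)) else 0 := by
    intro χ
    rw [← value_eq_sum_inducing hM ⟨k, hk⟩ isPBlock_principalBlock hy χ]
    simp only [Φ, classInner, Finset.mul_sum, Finset.sum_mul]
    rw [Finset.sum_comm]
    exact Finset.sum_congr rfl fun ξ _ => Finset.sum_congr rfl fun c _ => by ring
  have hΦ : ∀ c : (Subgroup.centralizer ({z} : Set G)), Φ c ≠ 0 → ¬ p ∣ orderOf c ∧ IsConj (y : (Subgroup.centralizer ({z} : Set G)) ⧸ N) (c : (Subgroup.centralizer ({z} : Set G)) ⧸ N) := by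
    intro c hc
    have e : Φ c = ∑ᶠ ξ ∈ principalBlock M (Subgroup.centralizer ({z} : Set G)), (ξ : (Subgroup.centralizer ({z} : Set G)) → ℂ) y * conj ((ξ : (Subgroup.centralizer ({z} : Set G)) → ℂ) c) := by
      rw [finsum_mem_block]
      simp only [Φ, hS]
      exact Finset.sum_congr rfl fun ξ _ => mul_comm _ _
    refine ⟨fun h => hc ?_, ?_⟩
    · rw [e, weak_orth hM (isPBlock_principalBlock (G := (Subgroup.centralizer ({z} : Set G)))) hy h]
    · by_contra h
      rw [e, principal_sum_quotient hN, if_neg h] at hc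
      exact hc rfl
  rw [finsum_mem_block, Finset.sum_filter]
  calc (∑ χ : IrrCharacter G, if χ ∈ principalBlock M G then a χ * (χ : G → ℂ) (z * (y : G)) else 0)
      = ∑ χ : IrrCharacter G, a χ * ((Nat.card (Subgroup.centralizer ({z} : Set G)) : ℂ)⁻¹ * ∑ c : (Subgroup.centralizer ({z} : Set G)), (χ : G → ℂ) (z * (c : G)) * Φ c) :=
        Finset.sum_congr rfl fun χ _ => by rw [hval χ, mul_ite, mul_zero]
    _ = (Nat.card (Subgroup.centralizer ({z} : Set G)) : ℂ)⁻¹ *
          ∑ c : (Subgroup.centralizer ({z} : Set G)), Φ c * ∑ χ : IrrCharacter G, a χ * (χ : G → ℂ) (z * (c : G)) := by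
        simp only [Finset.mul_sum]
        rw [Finset.sum_comm]
        exact Finset.sum_congr rfl fun c _ => Finset.sum_congr rfl fun χ _ => by ring
    _ = 0 := by
        rw [Finset.sum_eq_zero, mul_zero]
        intro c _
        by_cases hc : Φ c = 0
        · rw [hc, zero_mul]
        · rw [hvan c (hΦ c hc).1 (hΦ c hc).2, mul_zero]

/-- The product formula of an involution with its own section, off the real classes. -/
theorem involution_section [Fact p.Prime] (hM : IsPModular p M) (hz : ∃ k : ℕ, orderOf z = p ^ k)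
    (hz2 : z * z = 1) {N : Subgroup (Subgroup.centralizer ({z} : Set G))} [N.Normal] (hN : ∀ χ : IrrCharacter (Subgroup.centralizer ({z} : Set G)), χ ∈ principalBlock M (Subgroup.centralizer ({z} : Set G)) ↔
      ∀ k ∈ N, (χ : (Subgroup.centralizer ({z} : Set G)) → ℂ) k = (χ : (Subgroup.centralizer ({z} : Set G)) → ℂ) 1) {y : (Subgroup.centralizer ({z} : Set G))} (hy : ¬ p ∣ orderOf y)
    (hreal : ¬ IsConj (y : (Subgroup.centralizer ({z} : Set G)) ⧸ N) (y : (Subgroup.centralizer ({z} : Set G)) ⧸ N)⁻¹) :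
    ∑ᶠ χ ∈ principalBlock M G, (χ : G → ℂ) z ^ 2 / (χ : G → ℂ) 1 * (χ : G → ℂ) (z * (y : G)) = 0 := by
  classical
  cases nonempty_fintype G
  refine principal_project_eq_zero hM hz hN hy (fun χ => (χ : G → ℂ) z ^ 2 / (χ : G → ℂ) 1) ?_
  intro c hc hyc
  set u := z * (c : G) with hu_def
  have hexp : ∑ χ : IrrCharacter G, (χ : G → ℂ) z ^ 2 / (χ : G → ℂ) 1 * (χ : G → ℂ) u =
      (Nat.card G : ℂ)⁻¹ * ∑ g : G, ∑ χ : IrrCharacter G,
        (χ : G → ℂ) (z * (g * z * g⁻¹)) * conj ((χ : G → ℂ) u⁻¹) := by
    rw [Finset.sum_comm, Finset.mul_sum]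
    refine Finset.sum_congr rfl fun χ _ => ?_
    rw [← Finset.sum_mul, sum_mul_conj, irr_apply_inv, Complex.conj_conj]
    field_simp [Nat.card_pos.ne']
  rw [hexp, Finset.sum_eq_zero, mul_zero]
  intro g _
  rw [Cfsg.Agent.Char.sum_irr_mul_conj, if_neg]
  intro hconj
  have hcomm : Commute z (c : G) :=
    (Subgroup.mem_centralizer_singleton_iff.1 c.2 : (c : G) * z = z * c).symm
  obtain ⟨k, hk⟩ := hz
  obtain ⟨h, h1, h2, -⟩ := pair_inverts (p := p) (z := z) hz2
    (⟨(c : G), rfl, hcomm, ⟨k, hk⟩, by rwa [Subgroup.orderOf_coe]⟩ : IsPPart p u z) hconj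
  set T := h * z * h⁻¹ with hT
  rw [inv_eq_of_mul_eq_one_right hz2] at h2
  have hTC : T ∈ (Subgroup.centralizer ({z} : Set G)) := Subgroup.mem_centralizer_singleton_iff.2 (mul_inv_eq_iff_eq_mul.1 h2)
  have h3 : T * (c : G) * T⁻¹ = (c : G)⁻¹ := by
    refine mul_left_cancel (a := z) ?_
    calc z * (T * (c : G) * T⁻¹) = T * z * T⁻¹ * (T * (c : G) * T⁻¹) := by rw [h2]
      _ = T * u * T⁻¹ := by rw [hu_def]; group
      _ = u⁻¹ := h1
      _ = z * (c : G)⁻¹ := by
        rw [hu_def, mul_inv_rev, inv_eq_of_mul_eq_one_right hz2, hcomm.inv_right.eq]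
  have h4 : IsConj (c : (Subgroup.centralizer ({z} : Set G)) ⧸ N) (c : (Subgroup.centralizer ({z} : Set G)) ⧸ N)⁻¹ := by
    refine isConj_iff.2 ⟨((⟨T, hTC⟩ : (Subgroup.centralizer ({z} : Set G))) : (Subgroup.centralizer ({z} : Set G)) ⧸ N), ?_⟩
    rw [← QuotientGroup.mk_inv, ← QuotientGroup.mk_inv, ← QuotientGroup.mk_mul,
      ← QuotientGroup.mk_mul]
    exact congrArg _ (Subtype.ext h3)
  obtain ⟨d, hd⟩ := isConj_iff.1 hyc.symm
  refine hreal (hyc.trans (h4.trans (isConj_iff.2 ⟨d, ?_⟩)))
  rw [← hd, mul_inv_rev, mul_inv_rev, inv_inv, mul_assoc]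

end Cfsg.Agent.Block.ElemEight
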