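import Mathlib

/-!
Groups of odd order acting on an elementary abelian group of order eight.
-/

set_option autoImplicit false
set_option linter.unusedSectionVars false
set_option linter.style.haveILetI false

namespace Cfsg.Agent.Block.ElemEight

universe u

variable {E : Type u} [Group E] [Finite E]

theorem eq_or_of_inv (hexp : ∀ x : E, x * x = 1) (x : E) : x⁻¹ = x :=
  inv_eq_of_mul_eq_one_right (hexp x)

theorem comm_of_exp (hexp : ∀ x : E, x * x = 1) (x y : E) : x * y = y * x := by
  rw [← eq_or_of_inv hexp (x * y), mul_inv_rev, eq_or_of_inv hexp, eq_or_of_inv hexp]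

/-- An automorphism of odd order fixing two independent involutions is trivial. -/
theorem eq_one_of_fix_two (hexp : ∀ x : E, x * x = 1) (hcard : Nat.card E = 8) (α : MulAut E)
    (hα : Odd (orderOf α)) {e f : E} (he : e ≠ 1) (hf : f ≠ 1) (hef : e ≠ f) (h1 : α e = e)
    (h2 : α f = f) : α = 1 := by
  classical
  let F : Subgroup E := (α.toMonoidHom).eqLocus (MonoidHom.id E)
  have heF : e ∈ F := h1
  have hfF : f ∈ F := h2
  have h4 : 4 ≤ Nat.card F := by
    have hne : e * f ≠ 1 := fun h => hef (by
      rw [← eq_or_of_inv hexp f]; exact eq_inv_of_mul_eq_one_left h)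
    have hne1 : e * f ≠ e := by simpa using hf
    have hne2 : e * f ≠ f := by simpa using he
    cases nonempty_fintype E
    have hcard4 : ({1, e, f, e * f} : Finset E).card = 4 := by
      simp [he.symm, hf.symm, hne.symm, hef, hne1.symm, hne2.symm]
    rw [← hcard4, Nat.card_eq_fintype_card, Fintype.card_subtype]
    refine Finset.card_le_card fun x hx => ?_
    simp only [Finset.mem_insert, Finset.mem_singleton] at hx
    refine Finset.mem_filter.2 ⟨Finset.mem_univ _, ?_⟩
    rcases hx with rfl | rfl | rfl | rfl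
    exacts [F.one_mem, heF, hfF, F.mul_mem heF hfF]
  have hdiv : F.index ∣ 8 := hcard ▸ F.index_dvd_card
  have hsq : ∀ x : E, α (α x) = x := by
    intro x
    by_cases hx : x ∈ F
    · rw [show α x = x from hx, show α x = x from hx]
    · have hidx : F.index = 2 := by
        have h := F.card_mul_index
        rw [hcard] at h
        have h0 : F.index ≠ 1 := fun h' => hx (by rw [Subgroup.index_eq_one.1 h']; trivial)
        have hle : F.index ≤ 2 := by
          by_contra hgt
          have : 4 * 3 ≤ 8 := h ▸ Nat.mul_le_mul h4 (by omega)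
          omega
        have : F.index ≠ 0 := Subgroup.index_ne_zero_of_finite
        omega
      have hax : α x ∉ F := fun h => hx (by
        have h' : α (α x) = α x := h
        show α x = x
        exact α.injective h')
      have hmul : x⁻¹ * α x ∈ F := by
        rw [Subgroup.mul_mem_iff_of_index_two hidx]
        simp [hx, hax]
      have hfix : α (x⁻¹ * α x) = x⁻¹ * α x := hmul
      rw [map_mul, map_inv] at hfix
      calc α (α x) = α x * (x⁻¹ * α x) := by rw [← hfix]; group
        _ = α x * (α x * x⁻¹) := by rw [comm_of_exp hexp x⁻¹]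
        _ = x := by rw [← mul_assoc, hexp, one_mul, eq_or_of_inv hexp]
  have hpow : α ^ 2 = 1 := by
    ext x
    simp [pow_two, hsq]
  have hd := orderOf_dvd_of_pow_eq_one hpow
  rcases (Nat.dvd_prime Nat.prime_two).1 hd with h | h
  · exact orderOf_eq_one_iff.1 h
  · rw [h] at hα; exact absurd hα (by decide)

theorem card_stab (hexp : ∀ x : E, x * x = 1) (hcard : Nat.card E = 8) (R : Subgroup (MulAut E))
    (hR : Odd (Nat.card R)) {e : E} (he : e ≠ 1) (hfix : ∀ α ∈ R, α e = e) :
    Nat.card R = 1 ∨ Nat.card R = 3 := by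
  classical
  cases nonempty_fintype E
  let X := {x : E // x ≠ 1 ∧ x ≠ e}
  have hX : Nat.card X = 6 := by
    have h : (Finset.univ.filter fun x : E => x ≠ 1 ∧ x ≠ e) = Finset.univ \ {1, e} := by
      ext; simp
    rw [Nat.card_eq_fintype_card, Fintype.card_subtype, h,
      Finset.card_sdiff_of_subset (Finset.subset_univ _), Finset.card_univ, ← Nat.card_eq_fintype_card,
      hcard, Finset.card_pair he.symm]
  letI : MulAction R X :=
    { smul := fun α x => ⟨(α : MulAut E) x.1, fun h => x.2.1 (by simpa using h),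
        fun h => x.2.2 ((α : MulAut E).injective (h.trans (hfix α α.2).symm))⟩
      one_smul := fun x => rfl
      mul_smul := fun α β x => rfl }
  have hfree : ∀ x : X, MulAction.stabilizer R x = ⊥ := by
    intro x
    rw [Subgroup.eq_bot_iff_forall]
    intro α hα
    refine Subtype.ext ?_
    refine eq_one_of_fix_two hexp hcard _ ?_ he x.2.1 (Ne.symm x.2.2) (hfix α α.2)
      (congrArg Subtype.val hα)
    rw [Subgroup.orderOf_coe]
    exact hR.of_dvd_nat (orderOf_dvd_natCard α)
  have hd : Nat.card R ∣ 6 := by
    rw [← hX, Nat.card_congr (MulAction.selfEquivSigmaOrbits R X), Nat.card_sigma]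
    refine Finset.dvd_sum fun ω _ => ?_
    rw [Nat.card_congr (MulAction.orbitEquivQuotientStabilizer R ω.out), hfree,
      Nat.card_congr (QuotientGroup.quotientBot (G := R)).toEquiv]
  have h6 : Nat.card R ≤ 6 := Nat.le_of_dvd (by norm_num) hd
  interval_cases h : Nat.card R <;> simp_all [Nat.odd_iff]

/-- A group of odd order without fixed involution is transitive on the seven involutions. -/
theorem transitive_card (hexp : ∀ x : E, x * x = 1) (hcard : Nat.card E = 8) (R : Subgroup (MulAut E))
    (hR : Odd (Nat.card R)) (hnf : ∀ e : E, e ≠ 1 → ∃ α ∈ R, α e ≠ e) :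
    (∀ e f : E, e ≠ 1 → f ≠ 1 → ∃ α ∈ R, α e = f) ∧ (Nat.card R = 7 ∨ Nat.card R = 21) := by
  classical
  cases nonempty_fintype E
  let X := {x : E // x ≠ 1}
  have hX : Nat.card X = 7 := by
    rw [Nat.card_eq_fintype_card, Fintype.card_subtype_compl, Fintype.card_subtype_eq,
      ← Nat.card_eq_fintype_card, hcard]
  letI : MulAction R X :=
    { smul := fun α x => ⟨(α : MulAut E) x.1, fun h => x.2 (by simpa using h)⟩
      one_smul := fun x => rfl
      mul_smul := fun α β x => rfl }
  have hodd : ∀ x : X, Odd (Nat.card (MulAction.orbit R x)) := fun x => by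
    refine hR.of_dvd_nat ?_
    rw [Nat.card_congr (MulAction.orbitEquivQuotientStabilizer R x)]
    exact Subgroup.card_quotient_dvd_card _
  have h3 : ∀ x : X, 3 ≤ Nat.card (MulAction.orbit R x) := fun x => by
    obtain ⟨k, hk⟩ := hodd x
    by_contra hlt
    have h1 : Nat.card (MulAction.orbit R x) = 1 := by omega
    obtain ⟨α, hα, hne⟩ := hnf x.1 x.2
    haveI := (Nat.card_eq_one_iff_unique.1 h1).1
    exact hne (congrArg (fun y : MulAction.orbit R x => (y : X).1) (Subsingleton.elim
      (⟨(⟨α, hα⟩ : R) • x, MulAction.mem_orbit x _⟩ : MulAction.orbit R x)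
      ⟨x, MulAction.mem_orbit_self x⟩))
  have htr : ∀ x y : X, y ∈ MulAction.orbit R x := by
    intro x y
    by_contra hy
    have hsum : ∑ ω : MulAction.orbitRel.Quotient R X,
        Nat.card (MulAction.orbit R ω.out) = 7 := by
      rw [← hX, Nat.card_congr (MulAction.selfEquivSigmaOrbits R X), Nat.card_sigma]
    have hne : (⟦x⟧ : MulAction.orbitRel.Quotient R X) ≠ ⟦y⟧ := fun h =>
      hy (MulAction.orbitRel_apply.1 (Quotient.exact h.symm))
    set O := fun ω : MulAction.orbitRel.Quotient R X => Nat.card (MulAction.orbit R ω.out) with hO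
    have hpair := Finset.sum_le_univ_sum_of_nonneg (f := O) (fun _ => Nat.zero_le _)
      (s := {⟦x⟧, ⟦y⟧})
    rw [Finset.sum_pair hne] at hpair
    have hnu : ({⟦x⟧, ⟦y⟧} : Finset (MulAction.orbitRel.Quotient R X)) ≠ Finset.univ := by
      intro hu
      rw [← hu, Finset.sum_pair hne] at hsum
      obtain ⟨k, hk⟩ := hodd (Quotient.out (⟦x⟧ : MulAction.orbitRel.Quotient R X))
      obtain ⟨l, hl⟩ := hodd (Quotient.out (⟦y⟧ : MulAction.orbitRel.Quotient R X))
      omega
    obtain ⟨ω, hω⟩ := not_forall.1 fun h => hnu (Finset.eq_univ_iff_forall.2 h)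
    have htriple := Finset.sum_le_univ_sum_of_nonneg (f := O) (fun _ => Nat.zero_le _)
      (s := insert ω {⟦x⟧, ⟦y⟧})
    rw [Finset.sum_insert hω, Finset.sum_pair hne] at htriple
    simp only [hO] at htriple hsum
    have := h3 ω.out
    have := h3 (Quotient.out (⟦x⟧ : MulAction.orbitRel.Quotient R X))
    have := h3 (Quotient.out (⟦y⟧ : MulAction.orbitRel.Quotient R X))
    omega
  refine ⟨fun e f he hf => ?_, ?_⟩
  · obtain ⟨α, hα⟩ := htr ⟨e, he⟩ ⟨f, hf⟩
    exact ⟨α, α.2, congrArg Subtype.val hα⟩
  · obtain ⟨e, he⟩ : ∃ e : E, e ≠ 1 := by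
      haveI : Nontrivial E := Finite.one_lt_card_iff_nontrivial.1 (by omega)
      exact exists_ne 1
    set x : X := ⟨e, he⟩
    have horb : Nat.card (MulAction.orbit R x) = 7 := by
      rw [← hX, show MulAction.orbit R x = Set.univ from Set.eq_univ_of_forall (htr x)]
      exact Nat.card_congr (Equiv.Set.univ X)
    rw [← Subgroup.index_mul_card (MulAction.stabilizer R x), MulAction.index_stabilizer,
      ← Nat.card_coe_set_eq, horb]
    set St := (MulAction.stabilizer R x).map R.subtype with hSt
    have hc : Nat.card St = Nat.card (MulAction.stabilizer R x) :=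
      Subgroup.card_map_of_injective R.subtype_injective
    have h := card_stab hexp hcard St (hR.of_dvd_nat (by rw [hc]; exact Subgroup.card_subgroup_dvd_card _))
      he (by rintro _ ⟨α, hα, rfl⟩; exact congrArg Subtype.val hα)
    rw [hc] at h
    rcases h with h | h <;> rw [h]
    · exact Or.inl rfl
    · exact Or.inr rfl

end Cfsg.Agent.Block.ElemEight
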