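import Mathlib

/-!
The arithmetic of the principal block for an elementary abelian group of order eight with
automizer of order twenty-one.
-/

set_option autoImplicit false

namespace Cfsg.Agent.Block.ElemEight

theorem omega_sq {ω : ℂ} (hω : IsPrimitiveRoot ω 3) : ω ^ 2 = -1 - ω := by
  have h := hω.pow_eq_one
  have h1 : ω - 1 ≠ 0 := sub_ne_zero.2 (hω.ne_one (by norm_num))
  refine mul_left_cancel₀ h1 ?_
  linear_combination h

theorem omega_im {ω : ℂ} (hω : IsPrimitiveRoot ω 3) : ω.im ≠ 0 := by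
  intro h0
  have h := congrArg Complex.re (omega_sq hω)
  rw [pow_two, Complex.mul_re, h0] at h
  simp only [mul_zero, sub_zero, Complex.sub_re, Complex.neg_re, Complex.one_re] at h
  nlinarith [sq_nonneg (2 * ω.re + 1)]

theorem real_eq_of_omega {ω : ℂ} (hω : IsPrimitiveRoot ω 3) {a b c : ℝ}
    (h : (a : ℂ) + ω * b + ω ^ 2 * c = 0) : a = b ∧ b = c := by
  rw [omega_sq hω] at h
  have h1 := congrArg Complex.im h
  have h2 := congrArg Complex.re h
  simp only [Complex.add_im, Complex.mul_im, Complex.sub_im, Complex.neg_im, Complex.one_im,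
    Complex.ofReal_im, Complex.ofReal_re, Complex.zero_im, Complex.add_re, Complex.mul_re,
    Complex.sub_re, Complex.neg_re, Complex.one_re, Complex.zero_re] at h1 h2
  have hbc : b = c := by
    have h3 : ω.im * (b - c) = 0 := by linarith
    rcases mul_eq_zero.1 h3 with h4 | h4
    · exact absurd h4 (omega_im hω)
    · linarith
  rw [hbc] at h2
  exact ⟨by linarith, hbc⟩

theorem int_eq_of_omega {ω : ℂ} (hω : IsPrimitiveRoot ω 3) {a b c : ℤ}
    (h : (a : ℂ) + ω * b + ω ^ 2 * c = 0) : a = b ∧ b = c := by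
  obtain ⟨h1, h2⟩ := real_eq_of_omega hω (a := a) (b := b) (c := c) (by exact_mod_cast h)
  exact ⟨by exact_mod_cast h1, by exact_mod_cast h2⟩

/-- The three multiplicity vectors of the principal block cannot satisfy the product relation. -/
theorem no_config {ι : Type*} [DecidableEq ι] (B : Finset ι) {e : ι} (he : e ∈ B)
    (v0 v1 v2 : ι → ℤ) (x : ι → ℝ) (h0e : v0 e = 1) (h1e : v1 e = 0) (h2e : v2 e = 0)
    (hxe : x e = 1) (h00 : ∑ i ∈ B, v0 i ^ 2 = 4) (h11 : ∑ i ∈ B, v1 i ^ 2 = 4)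
    (h22 : ∑ i ∈ B, v2 i ^ 2 = 4) (h01 : ∑ i ∈ B, v0 i * v1 i = 2)
    (h02 : ∑ i ∈ B, v0 i * v2 i = 2) (h12 : ∑ i ∈ B, v1 i * v2 i = 2)
    (hx1 : ∑ i ∈ B, (v1 i : ℝ) * x i = 0) (hx2 : ∑ i ∈ B, (v2 i : ℝ) * x i = 0)
    (hdeg : ∀ i ∈ B, i ≠ e → 0 < x i ∧ ((v0 i + v1 i + v2 i) ^ 2 = 1 → (7 : ℝ) ≤ x i) ∧
      ((v0 i + v1 i + v2 i) ^ 2 = 4 → (10 : ℝ) ≤ x i))
    (hprod : ∑ i ∈ B, ((v0 i + v1 i + v2 i : ℤ) : ℝ) ^ 2 * ((v0 i - v1 i : ℤ) : ℝ) / x i = 0) :
    False := by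
  have hsmall : ∀ v : ι → ℤ, v e = 0 → ∑ i ∈ B, v i ^ 2 = 4 →
      ∑ i ∈ B, (v i : ℝ) * x i = 0 → ∀ i ∈ B, v i ^ 2 ≤ 1 := by
    intro v hve hv hvx i hi
    by_contra hgt
    have hie : i ≠ e := fun h => by rw [h, hve] at hgt; norm_num at hgt
    have h2' : v i ≤ -2 ∨ 2 ≤ v i := by
      by_contra h
      have : v i = -1 ∨ v i = 0 ∨ v i = 1 := by omega
      rcases this with h | h | h <;> rw [h] at hgt <;> norm_num at hgt
    have h4 : 4 ≤ v i ^ 2 := by rcases h2' with h | h <;> nlinarith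
    have hrest : ∀ j ∈ B, j ≠ i → v j = 0 := by
      intro j hj hji
      rw [← Finset.add_sum_erase B _ hi, ← Finset.add_sum_erase (B.erase i) _
        (Finset.mem_erase.2 ⟨hji, hj⟩)] at hv
      have hnn : 0 ≤ ∑ l ∈ (B.erase i).erase j, v l ^ 2 :=
        Finset.sum_nonneg fun l _ => sq_nonneg _
      exact pow_eq_zero_iff two_ne_zero |>.1 (le_antisymm (by linarith) (sq_nonneg _))
    rw [Finset.sum_eq_single i (fun j hj hji => by rw [hrest j hj hji, Int.cast_zero, zero_mul])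
      (fun h => absurd hi h)] at hvx
    rcases mul_eq_zero.1 hvx with h | h
    · have : v i = 0 := by exact_mod_cast h
      omega
    · exact (hdeg i hi hie).1.ne' h
  have hv1 := hsmall v1 h1e h11 hx1
  have hv2 := hsmall v2 h2e h22 hx2
  set D := B.erase e with hD
  have hC2 : ∑ i ∈ D, (v0 i - v1 i) ^ 2 = 3 := by
    have h : ∑ i ∈ B, (v0 i - v1 i) ^ 2 = 4 := by
      rw [Finset.sum_congr rfl fun i _ => show (v0 i - v1 i) ^ 2 =
        v0 i ^ 2 + v1 i ^ 2 - 2 * (v0 i * v1 i) by ring, Finset.sum_sub_distrib,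
        Finset.sum_add_distrib, ← Finset.mul_sum, h00, h11, h01]
      norm_num
    rw [← Finset.add_sum_erase B _ he, h0e, h1e] at h
    linarith
  have hv0 : ∀ i ∈ D, v0 i ^ 2 ≤ 1 := by
    intro i hi
    have h := h00
    rw [← Finset.add_sum_erase B _ he, h0e] at h
    have hle := Finset.single_le_sum (f := fun j => v0 j ^ 2) (fun j _ => sq_nonneg _) hi
    have h3 : v0 i ^ 2 ≤ 3 := by linarith
    have : -1 ≤ v0 i ∧ v0 i ≤ 1 := by constructor <;> nlinarith
    rcases this with ⟨a, b⟩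
    interval_cases hh : v0 i <;> norm_num
  have hr : ∀ i ∈ D, (-1 ≤ v0 i ∧ v0 i ≤ 1) ∧ (-1 ≤ v1 i ∧ v1 i ≤ 1) ∧ (-1 ≤ v2 i ∧ v2 i ≤ 1) ∧
      (v0 i = v1 i ∨ v0 i = 0 ∨ v1 i = 0) := by
    intro i hi
    have hb : ∀ z : ℤ, z ^ 2 ≤ 1 → -1 ≤ z ∧ z ≤ 1 := fun z hz => by constructor <;> nlinarith
    have a0 := hb _ (hv0 i hi)
    have a1 := hb _ (hv1 i (Finset.mem_of_mem_erase hi))
    have a2 := hb _ (hv2 i (Finset.mem_of_mem_erase hi))
    refine ⟨a0, a1, a2, ?_⟩
    have hle := Finset.single_le_sum (f := fun j => (v0 j - v1 j) ^ 2) (fun j _ => sq_nonneg _) hi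
    rw [hC2] at hle
    by_contra hno
    push Not at hno
    obtain ⟨n1, n2, n3⟩ := hno
    have : v0 i - v1 i = 2 ∨ v0 i - v1 i = -2 := by omega
    rcases this with h | h <;> rw [h] at hle <;> norm_num at hle
  set T := D.filter (fun i => v0 i ≠ v1 i) with hT
  have hTr : ∀ i ∈ T, (v0 i - v1 i) ^ 2 = 1 := by
    intro i hi
    obtain ⟨hiD, hne⟩ := Finset.mem_filter.1 hi
    obtain ⟨a0, a1, a2, h⟩ := hr i hiD
    have : v0 i - v1 i = 1 ∨ v0 i - v1 i = -1 := by omega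
    rcases this with h | h <;> rw [h] <;> norm_num
  have hTcard : T.card = 3 := by
    have h : ∑ i ∈ T, (v0 i - v1 i) ^ 2 = 3 := by
      rw [← hC2]
      refine Finset.sum_subset (Finset.filter_subset _ _) fun i hi hiT => ?_
      have : v0 i = v1 i := by
        by_contra hne
        exact hiT (Finset.mem_filter.2 ⟨hi, hne⟩)
      rw [this]; ring
    rw [Finset.sum_congr rfl hTr, Finset.sum_const, nsmul_eq_mul, mul_one] at h
    exact_mod_cast h
  obtain ⟨j, hj, hj4⟩ : ∃ j ∈ T, (v0 j + v1 j + v2 j) ^ 2 ≠ 4 := by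
    by_contra hno
    push Not at hno
    have h1 : ∑ i ∈ D, (v0 i - v1 i) * v2 i = 0 := by
      have h : ∑ i ∈ B, (v0 i - v1 i) * v2 i = 0 := by
        rw [Finset.sum_congr rfl fun i _ => sub_mul (v0 i) (v1 i) (v2 i), Finset.sum_sub_distrib,
          h02, h12, sub_self]
      rw [← Finset.add_sum_erase B _ he, h2e] at h
      simpa using h
    have h2 : ∑ i ∈ D, (v0 i ^ 2 - v1 i ^ 2) = -1 := by
      have h : ∑ i ∈ B, (v0 i ^ 2 - v1 i ^ 2) = 0 := by
        rw [Finset.sum_sub_distrib, h00, h11, sub_self]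
      rw [← Finset.add_sum_erase B _ he, h0e, h1e] at h
      linarith
    have h3 : ∑ i ∈ D, (v0 i - v1 i) * v2 i = ∑ i ∈ D, (v0 i ^ 2 - v1 i ^ 2) := by
      refine Finset.sum_congr rfl fun i hi => ?_
      by_cases he' : v0 i = v1 i
      · rw [he']; ring
      · obtain ⟨a0, a1, a2, h⟩ := hr i hi
        have h4 := hno i (Finset.mem_filter.2 ⟨hi, he'⟩)
        have hs : v0 i + v1 i + v2 i = 2 ∨ v0 i + v1 i + v2 i = -2 := by
          have : -3 ≤ v0 i + v1 i + v2 i ∧ v0 i + v1 i + v2 i ≤ 3 := by omega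
          obtain ⟨b1, b2⟩ := this
          interval_cases hh : v0 i + v1 i + v2 i <;> first | omega | norm_num at h4
        have e : v2 i = v0 i + v1 i := by omega
        rw [e]; ring
    omega
  set f := fun i => ((v0 i + v1 i + v2 i : ℤ) : ℝ) ^ 2 * ((v0 i - v1 i : ℤ) : ℝ) / x i with hf
  have hfT : ∑ i ∈ T, f i = -1 := by
    have h : ∑ i ∈ B, f i = 0 := hprod
    rw [← Finset.add_sum_erase B _ he] at h
    have hfe : f e = 1 := by simp [f, h0e, h1e, h2e, hxe]
    have hsub : ∑ i ∈ T, f i = ∑ i ∈ D, f i := by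
      refine Finset.sum_subset (Finset.filter_subset _ _) fun i hi hiT => ?_
      have : v0 i = v1 i := by
        by_contra hne
        exact hiT (Finset.mem_filter.2 ⟨hi, hne⟩)
      simp [f, this]
    rw [hfe] at h
    linarith
  have hbound : ∀ i ∈ T, |f i| ≤ if (v0 i + v1 i + v2 i) ^ 2 = 4 then (2 / 5 : ℝ) else 1 / 7 := by
    intro i hi
    have hiD := (Finset.mem_filter.1 hi).1
    obtain ⟨hxpos, hx7, hx10⟩ := hdeg i (Finset.mem_of_mem_erase hiD) (Finset.ne_of_mem_erase hiD)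
    have hC : |((v0 i - v1 i : ℤ) : ℝ)| = 1 := by
      rw [← sq_eq_sq₀ (abs_nonneg _) zero_le_one, sq_abs, one_pow]
      exact_mod_cast hTr i hi
    have habs : |f i| = ((v0 i + v1 i + v2 i : ℤ) : ℝ) ^ 2 / x i := by
      simp only [f, abs_div, abs_mul, hC, mul_one, abs_pow, sq_abs, abs_of_pos hxpos]
    rw [habs, div_le_iff₀ hxpos]
    obtain ⟨a0, a1, a2, h⟩ := hr i hiD
    have hne := (Finset.mem_filter.1 hi).2
    have hs : -2 ≤ v0 i + v1 i + v2 i ∧ v0 i + v1 i + v2 i ≤ 2 := by omega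
    obtain ⟨b1, b2⟩ := hs
    interval_cases hh : v0 i + v1 i + v2 i <;> norm_num at hx7 hx10 ⊢ <;> linarith
  have h1 : (1 : ℝ) ≤ ∑ i ∈ T, |f i| := by
    have := Finset.abs_sum_le_sum_abs f T
    rw [hfT] at this
    simpa using this
  have h2 : ∑ i ∈ T, |f i| ≤ 1 / 7 + 4 / 5 := by
    rw [← Finset.add_sum_erase T _ hj]
    refine add_le_add ?_ ?_
    · have := hbound j hj
      rwa [if_neg hj4] at this
    · calc ∑ i ∈ T.erase j, |f i| ≤ ∑ _i ∈ T.erase j, (2 / 5 : ℝ) := by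
            refine Finset.sum_le_sum fun i hi => (hbound i (Finset.mem_of_mem_erase hi)).trans ?_
            split_ifs <;> norm_num
        _ = 4 / 5 := by
            rw [Finset.sum_const, Finset.card_erase_of_mem hj, hTcard]
            norm_num
  linarith

end Cfsg.Agent.Block.ElemEight
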