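import Cfsg.Agent.Lib.Block.ElemEight.Aut
import Cfsg.Agent.Lib.Transfer.Abelian
import Cfsg.Agent.Lib.Transfer.Burnside
import Cfsg.Agent.Lib.Grp.PSolvable

/-!
Local structure around an elementary abelian Sylow subgroup of order eight.
-/

set_option autoImplicit false
set_option linter.unusedSectionVars false
set_option linter.style.haveILetI false

open scoped commutatorElement

namespace Cfsg.Agent.Block.ElemEight

open Cfsg

universe u

variable {G : Type u} [Group G] [Finite G]

theorem commutator_top [IsSimpleGroup G] (hG : ¬ IsMulCommutative G) : commutator G = ⊤ := by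
  rcases (inferInstance : (commutator G).Normal).eq_bot_or_eq_top with h | h
  · refine absurd ⟨⟨fun a b => ?_⟩⟩ hG
    have hm : ⁅a, b⁆ ∈ commutator G :=
      Subgroup.commutator_mem_commutator (Subgroup.mem_top a) (Subgroup.mem_top b)
    rw [h, Subgroup.mem_bot, commutatorElement_eq_one_iff_mul_comm] at hm
    exact hm
  · exact h

/-- Either the automizer has order seven, or some involution of `S` commutes with a `3`-element
normalizing `S` and acting fixed point freely off it. -/
theorem seven_or_three [IsSimpleGroup G] (hG : ¬ IsMulCommutative G) (S : Sylow 2 G)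
    (hS : Cfsg.IsElementaryAbelian 2 (S : Subgroup G)) (hS8 : Nat.card ↥(S : Subgroup G) = 8) :
    (Subgroup.centralizer ((S : Subgroup G) : Set G)).relIndex
        (Subgroup.normalizer ((S : Subgroup G) : Set G)) = 7 ∨
      ∃ t a : G, t ∈ (S : Subgroup G) ∧ t ≠ 1 ∧ a ∈ Subgroup.normalizer ((S : Subgroup G) : Set G) ∧
        a * t = t * a ∧ (∃ k : ℕ, orderOf a = 3 ^ k) ∧
        (∀ s ∈ (S : Subgroup G), a * s = s * a → s = 1 ∨ s = t) ∧
        (∀ s ∈ (S : Subgroup G), s ≠ 1 → IsConj t s) := by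
  classical
  haveI := hS.1
  set N := Subgroup.normalizer ((S : Subgroup G) : Set G) with hN
  set ρ := (S : Subgroup G).normalizerMonoidHom with hρ
  have happ : ∀ (n : N) (s : (S : Subgroup G)), ((ρ n s : (S : Subgroup G)) : G) = n * s * (n : G)⁻¹ :=
    fun n s => rfl
  have hexp : ∀ x : (S : Subgroup G), x * x = 1 := fun x => Subtype.ext (by
    rw [Subgroup.coe_mul, Subgroup.coe_one, ← pow_two]; exact hS.2 x x.2)
  have hcard : Nat.card ρ.range =
      (Subgroup.centralizer ((S : Subgroup G) : Set G)).relIndex N := by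
    rw [← Subgroup.index_ker, hρ, Subgroup.normalizerMonoidHom_ker]
    rfl
  have hSC : (S : Subgroup G) ≤ Subgroup.centralizer ((S : Subgroup G) : Set G) := fun x hx =>
    Subgroup.mem_centralizer_iff.2 fun y hy =>
      congrArg Subtype.val (hS.1.is_comm.comm ⟨y, hy⟩ ⟨x, hx⟩)
  have hSN : (S : Subgroup G) ≤ N := Subgroup.le_normalizer
  have hodd : Odd (Nat.card ρ.range) := by
    rw [hcard]
    have h1 : (Subgroup.centralizer ((S : Subgroup G) : Set G)).relIndex N ∣
        (S : Subgroup G).relIndex N := Subgroup.relIndex_dvd_of_le_left _ hSC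
    have h2 : (S : Subgroup G).relIndex N ∣ (S : Subgroup G).index :=
      Subgroup.relIndex_dvd_index_of_le hSN
    rw [← Nat.not_even_iff_odd, even_iff_two_dvd]
    exact fun h => S.not_dvd_index ((h.trans h1).trans h2)
  have hnf : ∀ e : (S : Subgroup G), e ≠ 1 → ∃ α ∈ ρ.range, α e ≠ e := by
    intro e he
    by_contra hno
    push Not at hno
    refine he (Subtype.ext ?_)
    have hcomm : ∀ n : N, (n : G) * e = e * n := fun n => by
      have h := congrArg Subtype.val (hno _ ⟨n, rfl⟩)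
      rw [happ] at h
      exact mul_inv_eq_iff_eq_mul.1 h
    have hab : IsMulCommutative ((S : Subgroup G).subgroupOf N) :=
      ⟨⟨fun a b => by
        have h := congrArg Subtype.val (hS.1.is_comm.comm
          (⟨((a : N) : G), a.2⟩ : (S : Subgroup G)) ⟨((b : N) : G), b.2⟩)
        exact Subtype.ext (Subtype.ext h)⟩⟩
    have hhall : Nat.Coprime (Nat.card ((S : Subgroup G).subgroupOf N))
        ((S : Subgroup G).subgroupOf N).index := by
      rw [Nat.card_congr (Subgroup.subgroupOfEquivOfLe hSN).toEquiv, hS8,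
        show 8 = 2 ^ 3 by norm_num]
      refine Nat.Coprime.pow_left _ ((Nat.prime_two.coprime_iff_not_dvd).2 fun h => ?_)
      exact S.not_dvd_index (h.trans (Subgroup.relIndex_dvd_index_of_le hSN))
    have h := Transfer.hall_inf_commutator_inf_center _ hab hhall
    have hmem : (⟨(e : G), hSN e.2⟩ : N) ∈
        (S : Subgroup G).subgroupOf N ⊓ commutator N ⊓ Subgroup.center N := by
      refine ⟨⟨Subgroup.mem_subgroupOf.2 e.2, ?_⟩, Subgroup.mem_center_iff.2 fun n =>
        Subtype.ext (hcomm n)⟩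
      have h1 : (e : G) ∈ ⁅(S : Subgroup G), N⁆ :=
        (Transfer.abelian_sylow_inf_commutator S hS.1).1
          ⟨by rw [commutator_top hG]; trivial, e.2⟩
      have h2 : (e : G) ∈ (commutator N).map N.subtype := by
        rw [Subgroup.map_subtype_commutator]
        exact Subgroup.commutator_mono hSN le_rfl h1
      obtain ⟨m, hm, hme⟩ := h2
      exact (show m = ⟨(e : G), hSN e.2⟩ from Subtype.ext hme) ▸ hm
    rw [h, Subgroup.mem_bot] at hmem
    exact congrArg (Subtype.val : N → G) hmem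
  obtain ⟨htr, h7 | h21⟩ := transitive_card hexp hS8 ρ.range hodd hnf
  · exact Or.inl (hcard ▸ h7)
  refine Or.inr ?_
  haveI : Fact (Nat.Prime 3) := ⟨Nat.prime_three⟩
  obtain ⟨⟨r, hr⟩, hr3⟩ := exists_prime_orderOf_dvd_card' (G := ρ.range) 3 (by rw [h21]; norm_num)
  rw [← Subgroup.orderOf_coe] at hr3
  obtain ⟨e, he, hre⟩ : ∃ e : (S : Subgroup G), e ≠ 1 ∧ r e = e := by
    have hP : IsPGroup 3 (Subgroup.zpowers r) :=
      IsPGroup.of_card (n := 1) (by rw [Nat.card_zpowers, pow_one]; exact hr3)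
    have h := hP.card_modEq_card_fixedPoints (S : Subgroup G)
    rw [hS8] at h
    by_contra hno
    push Not at hno
    have h1 : Nat.card (MulAction.fixedPoints (Subgroup.zpowers r) (S : Subgroup G)) = 1 := by
      refine Nat.card_eq_one_iff_unique.2 ⟨⟨fun a b => ?_⟩, ⟨⟨1, fun g => smul_one g⟩⟩⟩
      have hone : ∀ c : MulAction.fixedPoints (Subgroup.zpowers r) (S : Subgroup G), c.1 = 1 :=
        fun c => by
          by_contra hc
          exact hno c.1 hc (c.2 ⟨r, Subgroup.mem_zpowers r⟩)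
      exact Subtype.ext ((hone a).trans (hone b).symm)
    rw [h1] at h
    exact absurd h (by decide)
  obtain ⟨n, hn⟩ := hr
  set m := orderOf n / 3 ^ (orderOf n).factorization 3 with hm
  have hm3 : ¬ 3 ∣ m := Nat.not_dvd_ordCompl Nat.prime_three (orderOf_pos n).ne'
  have hρa : ρ (n ^ m) ≠ 1 := by
    rw [map_pow, hn]
    intro h
    exact hm3 (hr3 ▸ orderOf_dvd_of_pow_eq_one h)
  have hfix : ρ (n ^ m) e = e := by
    rw [map_pow, hn]
    clear_value m
    clear hρa hm3 hm
    induction m with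
    | zero => simp
    | succ m ih => rw [pow_succ, MulAut.mul_apply, hre, ih]
  have hordρ : Odd (orderOf (ρ (n ^ m))) :=
    hodd.of_dvd_nat (Subgroup.orderOf_dvd_natCard _ ⟨_, rfl⟩)
  refine ⟨e, ((n ^ m : N) : G), e.2, fun h => he (Subtype.ext h), (n ^ m).2, ?_, ?_, ?_, ?_⟩
  · have h := congrArg Subtype.val hfix
    rw [happ] at h
    exact mul_inv_eq_iff_eq_mul.1 h
  · refine ⟨(orderOf n).factorization 3, ?_⟩
    rw [Subgroup.orderOf_coe, orderOf_pow_of_dvd ?_ (Nat.ordCompl_dvd _ _)]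
    · exact Nat.div_div_self (Nat.ordProj_dvd _ _) (orderOf_pos n).ne'
    · exact (Nat.div_pos (Nat.ordProj_le 3 (orderOf_pos n).ne') (pow_pos (by norm_num) _)).ne'
  · intro s hs hcs
    by_contra hne
    push Not at hne
    refine hρa (eq_one_of_fix_two hexp hS8 _ hordρ he (f := ⟨s, hs⟩)
      (fun h => hne.1 (congrArg Subtype.val h)) (fun h => hne.2 (congrArg Subtype.val h).symm)
      hfix (Subtype.ext ?_))
    rw [happ]
    exact mul_inv_eq_iff_eq_mul.2 hcs
  · intro s hs hs1
    obtain ⟨α, ⟨n', rfl⟩, hα⟩ := htr e ⟨s, hs⟩ he (fun h => hs1 (congrArg Subtype.val h))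
    exact isConj_iff.2 ⟨n', (happ n' e).symm.trans (congrArg Subtype.val hα)⟩

/-- The quotient of the centralizer by its odd core is of order twenty-four. -/
theorem quotient_twentyfour {Q : Type u} [Group Q] [Finite Q] (hps : Cfsg.IsPSolvable 2 Q)
    (hO : Cfsg.pPrimeCore 2 Q = ⊥) (P : Sylow 2 Q) (hP : Cfsg.IsElementaryAbelian 2 (P : Subgroup Q))
    (hP8 : Nat.card ↥(P : Subgroup Q) = 8) {z y : Q} (hz : z ∈ (P : Subgroup Q)) (hz1 : z ≠ 1)
    (hzc : ∀ g : Q, g * z = z * g) (hy : y ∉ (P : Subgroup Q)) {k : ℕ} (hyk : y ^ 3 ^ k = 1)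
    (hcy : ∀ s ∈ (P : Subgroup Q), y * s = s * y → s = 1 ∨ s = z) :
    Nat.card Q = 24 ∧ Nat.card (Subgroup.centralizer ({y} : Set Q)) = 6 ∧ y ^ 3 = 1 ∧
      ¬ IsConj y y⁻¹ := by
  classical
  haveI := hP.1
  have hexp : ∀ x : (P : Subgroup Q), x * x = 1 := fun x => Subtype.ext (by
    rw [Subgroup.coe_mul, Subgroup.coe_one, ← pow_two]; exact hP.2 x x.2)
  have hC := Grp.centralizer_pCore_le_of_pSolvable hps hO
  have hPle : (P : Subgroup Q) ≤ Cfsg.pCore 2 Q := fun x hx => hC
    (Subgroup.mem_centralizer_iff.2 fun c hc => congrArg Subtype.val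
      (hP.1.is_comm.comm ⟨c, Grp.pCore_le_sylow P hc⟩ ⟨x, hx⟩))
  have hPeq : (P : Subgroup Q) = Cfsg.pCore 2 Q := le_antisymm hPle (Grp.pCore_le_sylow P)
  haveI : (P : Subgroup Q).Normal := hPeq ▸ Grp.pCore_isNormal
  set φ : Q →* MulAut (P : Subgroup Q) := MulAut.conjNormal with hφ
  have happ : ∀ (g : Q) (s : (P : Subgroup Q)), ((φ g s : (P : Subgroup Q)) : Q) = g * s * g⁻¹ :=
    fun g s => MulAut.conjNormal_apply g s
  have hker : φ.ker = (P : Subgroup Q) := by
    refine le_antisymm (fun g hg => ?_) (fun g hg => ?_)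
    · rw [MonoidHom.mem_ker] at hg
      refine (hPeq.symm ▸ hC) (Subgroup.mem_centralizer_iff.2 fun c hc => ?_)
      have hcP : c ∈ (P : Subgroup Q) := hPeq.symm ▸ hc
      have h := happ g ⟨c, hcP⟩
      rw [hg] at h
      exact (mul_inv_eq_iff_eq_mul.1 h.symm).symm
    · rw [MonoidHom.mem_ker]
      ext s
      rw [happ]
      exact mul_inv_eq_iff_eq_mul.2 (congrArg Subtype.val (hP.1.is_comm.comm ⟨g, hg⟩ s))
  have hidx : (P : Subgroup Q).index = Nat.card φ.range := by rw [← Subgroup.index_ker, hker]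
  have h3 : (P : Subgroup Q).index = 3 := by
    have hodd : Odd (Nat.card φ.range) := by
      rw [← hidx, ← Nat.not_even_iff_odd, even_iff_two_dvd]
      exact P.not_dvd_index
    rcases card_stab hexp hP8 φ.range hodd (e := ⟨z, hz⟩) (fun h => hz1 (congrArg Subtype.val h))
      (by rintro _ ⟨g, rfl⟩; exact Subtype.ext (by rw [happ]; exact mul_inv_eq_iff_eq_mul.2 (hzc g)))
      with h | h
    · exact absurd (hidx.trans h) fun h1 => hy (by rw [Subgroup.index_eq_one.1 h1]; trivial)
    · exact hidx.trans h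
  have hQ : Nat.card Q = 24 := by
    rw [← (P : Subgroup Q).card_mul_index, hP8, h3]
  have hy3P : y ^ 3 ∈ (P : Subgroup Q) := h3 ▸ Subgroup.pow_index_mem (P : Subgroup Q) y
  have hy3 : y ^ 3 = 1 := by
    have h1 : orderOf (y ^ 3) ∣ 2 := orderOf_dvd_of_pow_eq_one (hP.2 _ hy3P)
    have h2 : orderOf (y ^ 3) ∣ 3 ^ k := orderOf_dvd_of_pow_eq_one (by
      rw [← pow_mul, mul_comm, pow_mul, hyk, one_pow])
    exact orderOf_eq_one_iff.1 (Nat.eq_one_of_dvd_coprimes
      ((Nat.coprime_primes Nat.prime_two Nat.prime_three).2 (by norm_num) |>.pow_right k) h1 h2)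
  refine ⟨hQ, ?_, hy3, fun hc => hy ?_⟩
  · set K := Subgroup.centralizer ({y} : Set Q)
    have hyK : y ∈ K := Subgroup.mem_centralizer_singleton_iff.2 rfl
    have h2 : Nat.card ((P : Subgroup Q).subgroupOf K) = 2 := by
      cases nonempty_fintype Q
      rw [Nat.card_eq_two_iff]
      refine ⟨1, ⟨⟨z, Subgroup.mem_centralizer_singleton_iff.2 (hzc y).symm⟩,
        Subgroup.mem_subgroupOf.2 hz⟩, fun h => hz1 (congrArg
          (fun w : (P : Subgroup Q).subgroupOf K => ((w : K) : Q)) h).symm, ?_⟩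
      rw [Set.eq_univ_iff_forall]
      intro w
      rcases hcy _ w.2 (Subgroup.mem_centralizer_singleton_iff.1 w.1.2).symm with h | h
      · exact Or.inl (Subtype.ext (Subtype.ext h))
      · exact Or.inr (Subtype.ext (Subtype.ext h))
    have hd : ((P : Subgroup Q).subgroupOf K).index ∣ 3 :=
      h3 ▸ Subgroup.relIndex_dvd_index_of_normal (P : Subgroup Q) K
    rcases (Nat.dvd_prime Nat.prime_three).1 hd with h | h
    · exact absurd (Subgroup.mem_subgroupOf.1 (by rw [Subgroup.index_eq_one.1 h]; trivial :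
        (⟨y, hyK⟩ : K) ∈ (P : Subgroup Q).subgroupOf K)) hy
    · rw [← Subgroup.card_mul_index ((P : Subgroup Q).subgroupOf K), h2, h]
  · haveI : Fact (Nat.Prime 3) := ⟨Nat.prime_three⟩
    haveI : IsCyclic (Q ⧸ (P : Subgroup Q)) :=
      isCyclic_of_prime_card (p := 3) (by rw [← Subgroup.index_eq_card, h3])
    obtain ⟨d, hd⟩ := isConj_iff.1 hc
    have h := congrArg (QuotientGroup.mk' (P : Subgroup Q)) hd
    letI := IsCyclic.commGroup (α := Q ⧸ (P : Subgroup Q))
    rw [map_mul, map_mul, map_inv, map_inv, mul_comm (QuotientGroup.mk' _ d),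
      mul_inv_cancel_right, eq_inv_iff_mul_eq_one, ← map_mul] at h
    have h2 : y * y ∈ (P : Subgroup Q) := (QuotientGroup.eq_one_iff _).1 h
    have : y = y ^ 3 * (y * y)⁻¹ := by group
    rw [this]
    exact (P : Subgroup Q).mul_mem hy3P ((P : Subgroup Q).inv_mem h2)

end Cfsg.Agent.Block.ElemEight
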