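import Cfsg.Agent.Lib.Block.ElemEight.Comb
import Cfsg.Agent.Lib.Char.Constituent
import Cfsg.Agent.Lib.Char.CycQuotForm
import Cfsg.Agent.Lib.Char.Kernel
import Cfsg.Agent.Lib.Block.Central

/-!
Values of characters on the section of an involution at a commuting element of `3`-power order.
-/

open scoped ComplexConjugate

set_option autoImplicit false
set_option linter.unusedSectionVars false
set_option linter.style.haveILetI false

namespace Cfsg.Agent.Block.ElemEight

open Cfsg Cfsg.Agent.Char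

universe u

variable {G : Type u} [Group G] [Finite G]

theorem conj_omega {ω : ℂ} (hω : IsPrimitiveRoot ω 3) : conj ω = ω ^ 2 := by
  rw [← Complex.inv_eq_conj (hω.norm'_eq_one (by norm_num))]
  refine inv_eq_of_mul_eq_one_right ?_
  rw [← pow_succ']
  exact hω.pow_eq_one

/-- The differences of the eigenvalue multiplicities are integers. -/
theorem eigen_integers {χ : G → ℂ} (hχ : IsCharacter G χ) {t a : G} (ht : orderOf t = 2)
    (hta : a * t = t * a) {k : ℕ} (hk : orderOf a = 3 ^ k) (hk0 : k ≠ 0) {ω : ℂ}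
    (hω : IsPrimitiveRoot ω 3) {s u w : ℂ}
    (hval : ∀ q : ℕ, χ (t * a ^ (3 * q)) = s ∧ χ (t * a ^ (3 * q + 1)) = u ∧
      χ (t * a ^ (3 * q + 2)) = w) :
    ∃ v0 v1 v2 : ℤ, s = v0 + v1 + v2 ∧ u = v0 + ω * v1 + ω ^ 2 * v2 ∧
      w = v0 + ω ^ 2 * v1 + ω * v2 := by
  classical
  set A := Subgroup.zpowers a with hA
  set T := Subgroup.zpowers t with hT
  cases nonempty_fintype A
  cases nonempty_fintype T
  set g : A := ⟨a, Subgroup.mem_zpowers a⟩ with hg
  have hgen : ∀ c : A, c ∈ Subgroup.zpowers g := by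
    rintro ⟨c, hc⟩
    obtain ⟨i, rfl⟩ := Subgroup.mem_zpowers_iff.1 hc
    exact Subgroup.mem_zpowers_iff.2 ⟨i, rfl⟩
  have hnat : ∀ c : A, ∃ i : ℕ, g ^ i = c := fun c => mem_powers_iff_mem_zpowers.2 (hgen c)
  set ωu : ℂˣ := Units.mk0 ω (hω.ne_zero (by norm_num)) with hωu
  have hωo : orderOf ωu = 3 := by
    rw [← orderOf_units, hωu, Units.val_mk0]
    exact hω.eq_orderOf.symm
  have hdiv : orderOf ωu ∣ orderOf g := by
    rw [hωo, hg, Subgroup.orderOf_mk, hk]
    exact dvd_pow_self 3 hk0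
  set μ : A →* ℂˣ := monoidHomOfForallMemZpowers hgen hdiv with hμ
  have hμg : ∀ i : ℕ, ((μ (g ^ i) : ℂˣ) : ℂ) = ω ^ i := fun i => by
    rw [map_pow, hμ, monoidHomOfForallMemZpowers_apply_gen, Units.val_pow_eq_pow_val, hωu,
      Units.val_mk0]
  have hω2 := omega_sq hω
  set V : Fin 3 → ℂ := ![(s + u + w) / 3, (s + ω ^ 2 * u + ω * w) / 3,
    (s + ω * u + ω ^ 2 * w) / 3] with hV
  have hs : s = V 0 + V 1 + V 2 := by
    simp only [hV, Matrix.cons_val_zero, Matrix.cons_val_one, Matrix.cons_val_two, Matrix.head_cons,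
      Matrix.tail_cons]
    linear_combination (norm := ring_nf) (-(u + w) / 3) * hω2
  have hu : u = V 0 + ω * V 1 + ω ^ 2 * V 2 := by
    simp only [hV, Matrix.cons_val_zero, Matrix.cons_val_one, Matrix.cons_val_two, Matrix.head_cons,
      Matrix.tail_cons]
    rw [hω2]
    ring_nf
    rw [hω2]
    ring
  have hw : w = V 0 + ω ^ 2 * V 1 + ω * V 2 := by
    simp only [hV, Matrix.cons_val_zero, Matrix.cons_val_one, Matrix.cons_val_two, Matrix.head_cons,
      Matrix.tail_cons]
    rw [hω2]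
    ring_nf
    rw [hω2]
    ring
  set ψ : Fin 3 → A → ℂ := fun l c => (((μ c) ^ (l : ℕ) : ℂˣ) : ℂ) with hψ
  have hψirr : ∀ l, IsIrrCharacter A (ψ l) := fun l => by
    simpa [hψ] using isIrr_linear (μ ^ (l : ℕ))
  have hf : ∀ c : A, χ (t * (c : G)) = ∑ l : Fin 3, V l * ψ l c := by
    intro c
    obtain ⟨i, rfl⟩ := hnat c
    rw [Fin.sum_univ_three, Subgroup.coe_pow]
    simp only [hψ, Fin.val_zero, Fin.val_one, Fin.val_two, pow_zero, pow_one, Units.val_one,
      mul_one, Units.val_pow_eq_pow_val, hμg]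
    obtain ⟨q, hq⟩ : ∃ q, i = 3 * q ∨ i = 3 * q + 1 ∨ i = 3 * q + 2 := ⟨i / 3, by omega⟩
    have h3q : ω ^ (3 * q) = 1 := by rw [pow_mul, hω.pow_eq_one, one_pow]
    rcases hq with rfl | rfl | rfl
    · rw [h3q, (hval q).1, hs]; ring
    · rw [show ω ^ (3 * q + 1) = ω by rw [pow_succ, h3q, one_mul], (hval q).2.1, hu]; ring
    · rw [show ω ^ (3 * q + 2) = ω ^ 2 by rw [pow_add, h3q, one_mul], (hval q).2.2, hw,
        show (ω ^ 2) ^ 2 = ω by
          rw [← pow_mul]; show ω ^ 4 = ω; rw [pow_succ, hω.pow_eq_one, one_mul]]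
      ring
  have horth : ∀ j : Fin 3, classInner (fun c : A => χ (t * (c : G))) (ψ j) = V j := by
    intro j
    have hne : ∀ l : Fin 3, l ≠ j → ψ l ≠ ψ j := by
      intro l hlj h
      have h1 := congrFun h g
      simp only [hψ, Units.val_pow_eq_pow_val] at h1
      rw [← pow_one g, hμg 1, pow_one] at h1
      exact hlj (Fin.ext (hω.pow_inj l.2 j.2 h1))
    have hrw : classInner (fun c : A => χ (t * (c : G))) (ψ j) =
        ∑ l : Fin 3, V l * classInner (ψ l) (ψ j) := by
      simp only [classInner, hf, Finset.sum_mul, Finset.mul_sum]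
      rw [Finset.sum_comm]
      exact Finset.sum_congr rfl fun l _ => Finset.sum_congr rfl fun c _ => by ring
    rw [hrw, Finset.sum_eq_single j (fun l _ hl => by
      rw [classInner_irr_ne (hψirr l) (hψirr j) (hne l hl), mul_zero])
      (fun h => absurd (Finset.mem_univ j) h), classInner_self_irr (hψirr j), mul_one]
  have hint : ∀ j : Fin 3, ∃ z : ℤ, V j = z := by
    intro j
    obtain ⟨m, hm⟩ := IsChar.classInner_nat (IsChar.res hχ A) (IsIrr.isCharacter (hψirr j))
    have hcomm : ∀ (x : T) (y : A), Commute (T.subtype x) (A.subtype y) := by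
      rintro ⟨x, hx⟩ ⟨y, hy⟩
      obtain ⟨i, rfl⟩ := Subgroup.mem_zpowers_iff.1 hx
      obtain ⟨l, rfl⟩ := Subgroup.mem_zpowers_iff.1 hy
      exact (show Commute t a from hta.symm).zpow_zpow i l
    set φ : T × A →* G := MonoidHom.noncommCoprod T.subtype A.subtype hcomm with hφ
    have hθ : IsCharacter (T × A) (fun x : T × A => ψ j x.2) :=
      IsChar.comp (MonoidHom.snd T A) (IsIrr.isCharacter (hψirr j))
    obtain ⟨n, hn⟩ := IsChar.classInner_nat (IsChar.comp φ hχ) hθ
    refine ⟨2 * n - m, ?_⟩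
    rw [← horth j]
    have hTuniv : (Finset.univ : Finset T) = {1, ⟨t, Subgroup.mem_zpowers t⟩} := by
      refine (Finset.eq_univ_of_card _ ?_).symm
      rw [Finset.card_pair, ← Nat.card_eq_fintype_card, hT, Nat.card_zpowers, ht]
      intro h
      have : t = 1 := (congrArg Subtype.val h).symm
      rw [this, orderOf_one] at ht
      norm_num at ht
    have hne1 : (1 : T) ≠ ⟨t, Subgroup.mem_zpowers t⟩ := by
      intro h
      have : t = 1 := (congrArg Subtype.val h).symm
      rw [this, orderOf_one] at ht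
      norm_num at ht
    have hA0 : (Nat.card A : ℂ) ≠ 0 := Nat.cast_ne_zero.2 Nat.card_pos.ne'
    have hT2 : Nat.card T = 2 := by rw [hT, Nat.card_zpowers, ht]
    rw [classInner, Nat.card_prod, hT2, Fintype.sum_prod_type, hTuniv,
      Finset.sum_pair hne1] at hn
    simp only [hφ, MonoidHom.noncommCoprod_apply, Subgroup.subtype_apply, Subgroup.coe_one,
      one_mul] at hn
    rw [classInner] at hm
    push_cast at hn ⊢
    rw [classInner, ← hm, ← hn]
    field_simp
    ring
  obtain ⟨v0, h0⟩ := hint 0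
  obtain ⟨v1, h1⟩ := hint 1
  obtain ⟨v2, h2⟩ := hint 2
  exact ⟨v0, v1, v2, by rw [hs, h0, h1, h2], by rw [hu, h0, h1, h2], by rw [hw, h0, h1, h2]⟩

/-- The degree against the value at an involution of an elementary abelian group of order eight
all of whose involutions are conjugate. -/
theorem degree_relation {χ : IrrCharacter G} (S : Subgroup G) (hS : Nat.card S = 8) {t : G}
    (hfus : ∀ s ∈ S, s ≠ 1 → IsConj t s) {x : ℕ} (hx : (χ : G → ℂ) 1 = x) {σ : ℤ}
    (hσ : (χ : G → ℂ) t = σ) : ∃ m : ℕ, (x : ℤ) + 7 * σ = 8 * m ∧ σ ≤ x := by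
  classical
  cases nonempty_fintype S
  obtain ⟨m, hm⟩ := IsChar.classInner_nat (IsChar.res (IsIrr.isCharacter χ.2) S) IsChar.one
  refine ⟨m, ?_, ?_⟩
  · rw [classInner, hS, ← Finset.add_sum_erase Finset.univ _ (Finset.mem_univ (1 : S)),
      Finset.sum_congr rfl (g := fun _ => (σ : ℂ)) (fun c hc => by
        have := hfus c c.2 fun h => Finset.ne_of_mem_erase hc (Subtype.ext h)
        rw [map_one, mul_one, ← Cfsg.Agent.Char.IsClass.eq_of_isConj (irr_classFun χ) this, hσ]),
      Finset.sum_const, Finset.card_erase_of_mem (Finset.mem_univ _), Finset.card_univ,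
      ← Nat.card_eq_fintype_card, hS, Subgroup.coe_one, hx, map_one, mul_one] at hm
    have : ((x : ℤ) : ℂ) + 7 * (σ : ℂ) = 8 * ((m : ℤ) : ℂ) := by
      push_cast
      rw [← hm]
      push_cast
      rw [nsmul_eq_mul]
      push_cast
      ring
    exact_mod_cast this
  · have h := IsChar.norm_le (IsIrr.isCharacter χ.2) t
    rw [hσ, hx, Complex.norm_intCast, Complex.norm_natCast] at h
    have := (le_abs_self (σ : ℝ)).trans h
    exact_mod_cast this

/-- A nontrivial irreducible character of a simple group has trivial kernel. -/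
theorem eq_trivial_of_ker [IsSimpleGroup G] (χ : IrrCharacter G) {t : G} (ht : t ≠ 1)
    (h : (χ : G → ℂ) t = (χ : G → ℂ) 1) : χ = trivialIrr G := by
  classical
  cases nonempty_fintype G
  have hc := IsIrr.isCharacter χ.2
  rcases (charKer_normal hc).eq_bot_or_eq_top with hb | hb
  · exact absurd (Subgroup.mem_bot.1 (hb ▸ (mem_charKer hc).2 h)) ht
  · by_contra hne
    have h0 := classInner_irr_ne χ.2 isIrr_one fun e => hne (Subtype.ext e)
    rw [classInner, Finset.sum_congr rfl (g := fun _ => (χ : G → ℂ) 1) (fun g _ => by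
      rw [map_one, mul_one, (mem_charKer hc).1 (hb ▸ Subgroup.mem_top g)]), Finset.sum_const,
      nsmul_eq_mul, Finset.card_univ, ← Nat.card_eq_fintype_card, ← mul_assoc,
      inv_mul_cancel₀ (Nat.cast_ne_zero.2 Nat.card_pos.ne'), one_mul] at h0
    exact irr_one_ne_zero χ h0

end Cfsg.Agent.Block.ElemEight
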