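import Cfsg.Agent.Lib.Block.ElemEight.Column
import Cfsg.Agent.Lib.Block.ElemEight.Local
import Cfsg.Agent.Lib.Block.ElemEight.Values
import Cfsg.Agent.Lib.Block.TwoPrime.Basic
import Cfsg.Agent.Lib.Fus.TransitivityOdd

/-!
A simple group with elementary abelian Sylow `2`-subgroup of order eight and solvable centralizers
of involutions has automizer of order seven.
-/

open scoped ComplexConjugate

set_option autoImplicit false
set_option linter.unusedSectionVars false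
set_option linter.style.haveILetI false

namespace Cfsg.Agent.Block.ElemEight

open Cfsg Cfsg.Agent.Char

universe u

variable {G : Type u} [Group G] [Finite G]

set_option maxHeartbeats 1000000 in
theorem automizer_seven [IsSimpleGroup G] (hG : ¬ IsMulCommutative G) (S : Sylow 2 G)
    (hS : Cfsg.IsElementaryAbelian 2 (S : Subgroup G)) (hS8 : Nat.card ↥(S : Subgroup G) = 8)
    (hC : ∀ t : G, orderOf t = 2 → Group.IsSolvable ↥(Subgroup.centralizer ({t} : Set G))) :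
    (Subgroup.centralizer ((S : Subgroup G) : Set G)).relIndex
      (Subgroup.normalizer ((S : Subgroup G) : Set G)) = 7 := by
  classical
  rcases seven_or_three hG S hS hS8 with h | ⟨t, a, htS, ht1, haN, hat, ⟨k, hk⟩, hcs, hfus⟩
  · exact h
  exfalso
  haveI : Fact (Nat.Prime 2) := ⟨Nat.prime_two⟩
  cases nonempty_fintype G
  haveI := hS.1
  obtain ⟨M, hM⟩ := exists_isPModular 2 Nat.prime_two
  have ht2 : t * t = 1 := by rw [← pow_two]; exact hS.2 t htS
  have hto : orderOf t = 2 := orderOf_eq_prime (hS.2 t htS) ht1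
  have hz : ∃ j : ℕ, orderOf t = 2 ^ j := ⟨1, by rw [hto, pow_one]⟩
  set C := Subgroup.centralizer ({t} : Set G) with hCdef
  have hSC : (S : Subgroup G) ≤ C := fun s hs => Subgroup.mem_centralizer_singleton_iff.2
    (congrArg Subtype.val (hS.1.is_comm.comm ⟨s, hs⟩ ⟨t, htS⟩))
  set aC : C := ⟨a, Subgroup.mem_centralizer_singleton_iff.2 hat⟩ with haC
  have hps : Cfsg.IsPSolvable 2 C :=
    Fus.TransOdd.isPSolvable_of_solvable Nat.prime_two _ C rfl (hC t hto)
  set P : Sylow 2 C := S.subtype hSC with hPdef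
  have hPmem : ∀ x : C, x ∈ (P : Subgroup C) ↔ (x : G) ∈ (S : Subgroup G) := fun x => by
    rw [hPdef, Sylow.coe_subtype, Subgroup.mem_subgroupOf]
  set O := Cfsg.pPrimeCore 2 C with hO
  haveI : O.Normal := Grp.pPrimeCore_isNormal
  have hN := TwoPrime.mem_principal_iff_ker hM hps
  have hdisj : ∀ x : C, (x : G) ∈ (S : Subgroup G) → x ∈ O → x = 1 := by
    intro x hxS hxO
    have h1 : orderOf x ∣ 2 := orderOf_dvd_of_pow_eq_one (Subtype.ext (hS.2 _ hxS))
    rcases (Nat.dvd_prime Nat.prime_two).1 h1 with h | h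
    · exact orderOf_eq_one_iff.1 h
    · exact absurd (h ▸ Subgroup.orderOf_dvd_natCard O hxO) (Grp.pPrimeCore_not_dvd (p := 2))
  -- commutators with `a` inside `S`
  have hcommS : ∀ x : C, (x : G) ∈ (S : Subgroup G) → aC * x * aC⁻¹ * x⁻¹ ∈ O → a * x = x * a := by
    intro x hxS hxO
    have h1 : ((aC * x * aC⁻¹ * x⁻¹ : C) : G) ∈ (S : Subgroup G) :=
      (S : Subgroup G).mul_mem ((Subgroup.mem_normalizer_iff.1 haN x).1 hxS)
        ((S : Subgroup G).inv_mem hxS)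
    have h2 : ((aC * x * aC⁻¹ * x⁻¹ : C) : G) = 1 := congrArg Subtype.val (hdisj _ h1 hxO)
    simp only [Subgroup.coe_mul, Subgroup.coe_inv, haC] at h2
    calc a * x = a * x * a⁻¹ * (x : G)⁻¹ * (x * a) := by group
      _ = x * a := by rw [h2, one_mul]
  have haO : aC ∉ O := by
    intro h
    have hle : ∀ s ∈ (S : Subgroup G), s = 1 ∨ s = t := fun s hs => by
      refine hcs s hs (hcommS ⟨s, hSC hs⟩ hs ?_)
      rw [show aC * ⟨s, hSC hs⟩ * aC⁻¹ * (⟨s, hSC hs⟩ : C)⁻¹ =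
        aC * (⟨s, hSC hs⟩ * aC⁻¹ * (⟨s, hSC hs⟩ : C)⁻¹) by group]
      exact O.mul_mem h ((inferInstance : O.Normal).conj_mem _ (O.inv_mem h) _)
    have hsub : ((S : Subgroup G) : Set G) ⊆ {1, t} := fun s hs => hle s hs
    have h2 := Set.ncard_le_ncard hsub (Set.toFinite _)
    rw [← Nat.card_coe_set_eq, Set.ncard_pair (Ne.symm ht1)] at h2
    exact absurd (hS8 ▸ h2 : 8 ≤ 2) (by norm_num)
  set π := QuotientGroup.mk' O with hπ
  set y := π aC with hy
  set P' : Sylow 2 (C ⧸ O) := P.mapSurjective (QuotientGroup.mk'_surjective O) with hP'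
  have hP'mem : ∀ q, q ∈ (P' : Subgroup (C ⧸ O)) ↔ ∃ x ∈ (P : Subgroup C), π x = q := fun q =>
    Iff.rfl
  have hel : Cfsg.IsElementaryAbelian 2 (P' : Subgroup (C ⧸ O)) := by
    refine ⟨⟨⟨fun q r => ?_⟩⟩, fun q hq => ?_⟩
    · obtain ⟨x, hx, hxq⟩ := (hP'mem _).1 q.2
      obtain ⟨x', hx', hxr⟩ := (hP'mem _).1 r.2
      refine Subtype.ext ?_
      rw [Subgroup.coe_mul, Subgroup.coe_mul, ← hxq, ← hxr, ← map_mul, ← map_mul]
      have h := congrArg Subtype.val (hS.1.is_comm.comm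
        (⟨(x : G), (hPmem x).1 hx⟩ : (S : Subgroup G)) ⟨(x' : G), (hPmem x').1 hx'⟩)
      exact congrArg π (Subtype.ext h)
    · obtain ⟨x, hx, rfl⟩ := (hP'mem _).1 hq
      rw [← map_pow, show x ^ 2 = 1 from Subtype.ext (hS.2 _ ((hPmem x).1 hx)), map_one]
  have hP'8 : Nat.card (P' : Subgroup (C ⧸ O)) = 8 := by
    rw [show (P' : Subgroup (C ⧸ O)) = (P : Subgroup C).map π from rfl, ← Subgroup.relIndex_ker,
      hπ, QuotientGroup.ker_mk', ← Subgroup.inf_relIndex_right, show O ⊓ (P : Subgroup C) = ⊥ from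
        (Subgroup.eq_bot_iff_forall _).2 fun x hx => hdisj x ((hPmem x).1 hx.2) hx.1,
      Subgroup.relIndex_bot_left, hPdef, Sylow.coe_subtype,
      Nat.card_congr (Subgroup.subgroupOfEquivOfLe hSC).toEquiv, hS8]
  have hy3k : y ^ 3 ^ k = 1 := by
    rw [hy, ← map_pow, show aC ^ 3 ^ k = 1 from Subtype.ext (by
      rw [Subgroup.coe_pow, haC, ← hk]; exact pow_orderOf_eq_one a), map_one]
  have hyP : y ∉ (P' : Subgroup (C ⧸ O)) := by
    intro h
    refine haO ((QuotientGroup.eq_one_iff aC).1 ?_)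
    show y = 1
    exact orderOf_eq_one_iff.1 (Nat.eq_one_of_dvd_coprimes
      (((Nat.coprime_primes Nat.prime_two Nat.prime_three).2 (by norm_num)).pow_right k)
      (orderOf_dvd_of_pow_eq_one (hel.2 y h)) (orderOf_dvd_of_pow_eq_one hy3k))
  obtain ⟨hQ, h6, hy3, hreal⟩ := quotient_twentyfour (Grp.isPSolvable_map hps π
      (QuotientGroup.mk'_surjective O)) PPartDerived.pPrimeCore_quotient_eq_bot P' hel hP'8
    (z := π ⟨t, hSC htS⟩) ⟨⟨t, hSC htS⟩, (hPmem _).2 htS, rfl⟩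
    (fun h => ht1 (congrArg Subtype.val (hdisj ⟨t, hSC htS⟩ htS ((QuotientGroup.eq_one_iff _).1 h))))
    (fun q => by
      obtain ⟨c, rfl⟩ := QuotientGroup.mk'_surjective O q
      rw [← map_mul, ← map_mul]
      exact congrArg π (Subtype.ext (Subgroup.mem_centralizer_singleton_iff.1 c.2)))
    hyP hy3k (fun q hq hqc => by
      obtain ⟨x, hx, rfl⟩ := (hP'mem _).1 hq
      have hxS := (hPmem x).1 hx
      have h1 : aC * x * aC⁻¹ * x⁻¹ ∈ O := by
        rw [← QuotientGroup.eq_one_iff]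
        show π (aC * x * aC⁻¹ * x⁻¹) = 1
        rw [map_mul, map_mul, map_mul, map_inv, map_inv, ← hy, hqc, mul_inv_cancel_right,
          mul_inv_cancel]
      rcases hcs _ hxS (hcommS x hxS h1) with h | h
      · exact Or.inl (by rw [show x = 1 from Subtype.ext h, map_one])
      · exact Or.inr (congrArg π (Subtype.ext h)))
  have hk0 : k ≠ 0 := fun h => haO (by
    have ha1 : a = 1 := orderOf_eq_one_iff.1 (by rw [hk, h, pow_zero])
    rw [show aC = 1 from Subtype.ext ha1]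
    exact O.one_mem)
  have hy1 : y ≠ 1 := fun h => hyP (h ▸ Subgroup.one_mem _)
  have hreg : ∀ c : C, c ∈ Subgroup.zpowers aC → ¬ 2 ∣ orderOf c := by
    intro c hc h
    have h1 : orderOf c ∣ 3 ^ k := by
      refine (Subgroup.orderOf_dvd_natCard _ hc).trans ?_
      rw [Nat.card_zpowers, ← Subgroup.orderOf_coe, haC, hk]
    exact absurd (Nat.prime_two.dvd_of_dvd_pow (h.trans h1)) (by norm_num)
  have hregp : ∀ i : ℕ, ¬ 2 ∣ orderOf (aC ^ i) := fun i => hreg _ (pow_mem (Subgroup.mem_zpowers _) i)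
  set B := Finset.univ.filter (fun χ : IrrCharacter G => χ ∈ principalBlock M G) with hB
  have hBm : ∀ χ : IrrCharacter G, χ ∈ B ↔ χ ∈ principalBlock M G := fun χ => by simp [hB]
  have hcongr : ∀ χ ∈ B, ∀ c d : C, c ∈ Subgroup.zpowers aC → d ∈ Subgroup.zpowers aC → π c = π d →
      (χ : G → ℂ) (t * (c : G)) = (χ : G → ℂ) (t * (d : G)) := fun χ hχ c d hc hd hcd =>
    principal_value_congr hM hz hN (hreg c hc) (hreg d hd) hcd ((hBm χ).1 hχ)
  have hinvta : (a * t)⁻¹ = t * a⁻¹ := by rw [mul_inv_rev, inv_eq_of_mul_eq_one_right ht2]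
  have hw : ∀ χ : IrrCharacter G, (χ : G → ℂ) (t * a⁻¹) = conj ((χ : G → ℂ) (t * a)) := fun χ => by
    rw [← hinvta, irr_apply_inv, hat]
  obtain ⟨ω, hω⟩ : ∃ ω : ℂ, IsPrimitiveRoot ω 3 :=
    ⟨_, Complex.isPrimitiveRoot_exp 3 (by norm_num)⟩
  have hvals : ∀ χ : IrrCharacter G, ∃ v : ℤ × ℤ × ℤ, χ ∈ B →
      (χ : G → ℂ) t = v.1 + v.2.1 + v.2.2 ∧
      (χ : G → ℂ) (t * a) = v.1 + ω * v.2.1 + ω ^ 2 * v.2.2 ∧
      conj ((χ : G → ℂ) (t * a)) = v.1 + ω ^ 2 * v.2.1 + ω * v.2.2 := by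
    intro χ
    by_cases hχ : χ ∈ B
    · have hval : ∀ q : ℕ, (χ : G → ℂ) (t * a ^ (3 * q)) = (χ : G → ℂ) t ∧
          (χ : G → ℂ) (t * a ^ (3 * q + 1)) = (χ : G → ℂ) (t * a) ∧
          (χ : G → ℂ) (t * a ^ (3 * q + 2)) = conj ((χ : G → ℂ) (t * a)) := by
        intro q
        have h := fun i c hc hic =>
          hcongr χ hχ (aC ^ i) c (pow_mem (Subgroup.mem_zpowers _) i) hc hic
        have h3q : π (aC ^ (3 * q)) = 1 := by rw [map_pow, ← hy, pow_mul, hy3, one_pow]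
        refine ⟨?_, ?_, ?_⟩
        · have := h (3 * q) 1 (Subgroup.one_mem _) (by rw [h3q, map_one])
          simpa [haC] using this
        · have := h (3 * q + 1) aC (Subgroup.mem_zpowers _) (by rw [pow_succ, map_mul, h3q, one_mul])
          simpa [haC] using this
        · have := h (3 * q + 2) aC⁻¹ (inv_mem (Subgroup.mem_zpowers _)) (by
            rw [pow_add, map_mul, h3q, one_mul, map_inv, map_pow, ← hy]
            exact (inv_eq_of_mul_eq_one_right (by rw [← pow_succ']; exact hy3)).symm)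
          rw [← hw]
          simpa [haC] using this
      obtain ⟨v0, v1, v2, h⟩ := eigen_integers (IsIrr.isCharacter χ.2) hto hat hk hk0 hω hval
      exact ⟨(v0, v1, v2), fun _ => h⟩
    · exact ⟨(0, 0, 0), fun h => absurd h hχ⟩
  choose v hv using hvals
  -- the column sums
  have hcol : ∀ c d : C, c ∈ Subgroup.zpowers aC → d ∈ Subgroup.zpowers aC →
      ∑ χ ∈ B, (χ : G → ℂ) (t * (c : G)) * conj ((χ : G → ℂ) (t * (d : G))) =
        if IsConj (π c) (π d) then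
          (Nat.card (Subgroup.centralizer ({π d} : Set (C ⧸ O))) : ℂ) else 0 := by
    intro c d hc hd
    rw [hB, ← finsum_mem_block]
    refine (section_column hM hz hN (hreg c hc) (hreg d hd)).trans ?_
    by_cases h : IsConj (π c) (π d)
    · rw [if_pos h, if_pos (show IsConj (c : C ⧸ O) (d : C ⧸ O) from h)]
      rfl
    · rw [if_neg h, if_neg (show ¬ IsConj (c : C ⧸ O) (d : C ⧸ O) from h)]
  have hss : ∑ χ ∈ B, (χ : G → ℂ) t * conj ((χ : G → ℂ) t) = 24 := by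
    have h := hcol 1 1 (Subgroup.one_mem _) (Subgroup.one_mem _)
    rw [if_pos (IsConj.refl _), map_one] at h
    rw [show Subgroup.centralizer ({1} : Set (C ⧸ O)) = ⊤ from eq_top_iff.2 fun g _ =>
      Subgroup.mem_centralizer_singleton_iff.2 (by rw [mul_one, one_mul]), Subgroup.card_top, hQ] at h
    simpa using h
  have hsu : ∑ χ ∈ B, (χ : G → ℂ) t * conj ((χ : G → ℂ) (t * a)) = 0 := by
    have h := hcol 1 aC (Subgroup.one_mem _) (Subgroup.mem_zpowers _)
    rw [if_neg (fun hc => hy1 (by rw [map_one, isConj_one_right] at hc; exact hc))] at h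
    simpa [haC] using h
  have huu' : ∑ χ ∈ B, (χ : G → ℂ) (t * a) * conj ((χ : G → ℂ) (t * a)) = 6 := by
    have h := hcol aC aC (Subgroup.mem_zpowers _) (Subgroup.mem_zpowers _)
    rw [if_pos (IsConj.refl _), ← hy, h6] at h
    simpa [haC] using h
  have huu : ∑ χ ∈ B, (χ : G → ℂ) (t * a) * (χ : G → ℂ) (t * a) = 0 := by
    have h := hcol aC aC⁻¹ (Subgroup.mem_zpowers _) (inv_mem (Subgroup.mem_zpowers _))
    rw [if_neg (by rw [map_inv, ← hy]; exact hreal)] at h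
    simpa [haC, hw] using h
  have horth : ∀ g : G, IsPPart 2 g t → ∑ χ ∈ B, (χ : G → ℂ) g * (χ : G → ℂ) 1 = 0 := by
    intro g hg
    have h := section_orth hM hg (z := (1 : G)) (h := 1)
      (isPPart_self_of_pPow ⟨0, by rw [orderOf_one, pow_zero]⟩)
      (fun h => ht1 (isConj_one_left.1 h)) (isPBlock_principalBlock (M := M) (G := G))
    rw [inv_one, finsum_mem_block] at h
    exact h
  have hprod : ∑ χ ∈ B, (χ : G → ℂ) t ^ 2 / (χ : G → ℂ) 1 * (χ : G → ℂ) (t * a) = 0 := by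
    rw [hB, ← finsum_mem_block]
    exact involution_section hM hz ht2 hN (hreg aC (Subgroup.mem_zpowers _)) hreal
  -- the integral vectors
  set v0 := fun χ => (v χ).1 with hv0
  set v1 := fun χ => (v χ).2.1 with hv1
  set v2 := fun χ => (v χ).2.2 with hv2
  have hω2 := omega_sq hω
  have hω3 : ω ^ 3 = 1 := hω.pow_eq_one
  have hreals : ∀ χ ∈ B, conj ((χ : G → ℂ) t) = (χ : G → ℂ) t := fun χ hχ => by
    rw [(hv χ hχ).1, map_add, map_add, map_intCast, map_intCast, map_intCast]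
  set A0 := ∑ χ ∈ B, v0 χ ^ 2 with hA0
  set A1 := ∑ χ ∈ B, v1 χ ^ 2 with hA1
  set A2 := ∑ χ ∈ B, v2 χ ^ 2 with hA2
  set p01 := ∑ χ ∈ B, v0 χ * v1 χ with hp01
  set p02 := ∑ χ ∈ B, v0 χ * v2 χ with hp02
  set p12 := ∑ χ ∈ B, v1 χ * v2 χ with hp12
  have hlin : ∀ (f : IrrCharacter G → ℂ) (c0 c1 c2 c01 c02 c12 : ℂ),
      (∀ χ ∈ B, f χ = c0 * v0 χ ^ 2 + c1 * v1 χ ^ 2 + c2 * v2 χ ^ 2 + c01 * (v0 χ * v1 χ) +
        c02 * (v0 χ * v2 χ) + c12 * (v1 χ * v2 χ)) →
      ∑ χ ∈ B, f χ = c0 * A0 + c1 * A1 + c2 * A2 + c01 * p01 + c02 * p02 + c12 * p12 := by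
    intro f c0 c1 c2 c01 c02 c12 h
    rw [Finset.sum_congr rfl h]
    simp only [Finset.sum_add_distrib, hA0, hA1, hA2, hp01, hp02, hp12, Int.cast_sum, Int.cast_mul,
      Int.cast_pow, Finset.mul_sum]
  have e1 : (A0 : ℂ) + A1 + A2 + 2 * (p01 + p02 + p12) = 24 := by
    rw [← hss, hlin (fun χ => (χ : G → ℂ) t * conj ((χ : G → ℂ) t)) 1 1 1 2 2 2 fun χ hχ => by
      rw [hreals χ hχ, (hv χ hχ).1]; ring]
    ring
  have e2 : (A0 : ℂ) + A1 + A2 - (p01 + p02 + p12) = 6 := by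
    rw [← huu', hlin (fun χ => (χ : G → ℂ) (t * a) * conj ((χ : G → ℂ) (t * a))) 1 1 1 (-1) (-1) (-1)
      fun χ hχ => by
        rw [(hv χ hχ).2.2, (hv χ hχ).2.1, hω2]
        simp only [hv0, hv1, hv2]
        linear_combination (norm := ring_nf) (2 * ((v χ).2.1 : ℂ) * ((v χ).2.2) - ((v χ).2.1 : ℂ) ^ 2 - ((v χ).2.2 : ℂ) ^ 2) * hω2]
    ring
  have e3 : ((A0 : ℂ) + ω ^ 2 * A1 + ω * A2) - (p12 + ω * p01 + ω ^ 2 * p02) = 0 := by
    rw [← hsu, hlin (fun χ => (χ : G → ℂ) t * conj ((χ : G → ℂ) (t * a))) 1 (ω ^ 2) ω (-ω) (-ω ^ 2)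
      (-1) fun χ hχ => by
        rw [(hv χ hχ).2.2, (hv χ hχ).1, hω2]
        ring]
    ring
  have e4 : ((A0 : ℂ) + ω ^ 2 * A1 + ω * A2) + 2 * (p12 + ω * p01 + ω ^ 2 * p02) = 0 := by
    rw [← huu, hlin (fun χ => (χ : G → ℂ) (t * a) * (χ : G → ℂ) (t * a)) 1 (ω ^ 2) ω (2 * ω)
      (2 * ω ^ 2) 2 fun χ hχ => by
        rw [(hv χ hχ).2.1]
        simp only [hv0, hv1, hv2]
        linear_combination (2 * ((v χ).2.1 : ℂ) * ((v χ).2.2) + ω * ((v χ).2.2 : ℂ) ^ 2) * hω3]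
    ring
  obtain ⟨hA02, hA21⟩ := int_eq_of_omega hω (a := A0) (b := A2) (c := A1)
    (by linear_combination (2 / 3 : ℂ) * e3 + (1 / 3 : ℂ) * e4)
  obtain ⟨hp1, hp2⟩ := int_eq_of_omega hω (a := p12) (b := p01) (c := p02)
    (by linear_combination (-1 / 3 : ℂ) * e3 + (1 / 3 : ℂ) * e4)
  have e1' : A0 + A1 + A2 + 2 * (p01 + p02 + p12) = 24 := by exact_mod_cast e1
  have e2' : A0 + A1 + A2 - (p01 + p02 + p12) = 6 := by exact_mod_cast e2
  -- the trivial character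
  have htriv : trivialIrr G ∈ B := (hBm _).2 (trivial_mem_principalBlock hM)
  obtain ⟨h0e, h1e, h2e⟩ : v0 (trivialIrr G) = 1 ∧ v1 (trivialIrr G) = 0 ∧ v2 (trivialIrr G) = 0 := by
    have h1 := (hv _ htriv).1
    have h2 := (hv _ htriv).2.1
    rw [show ∀ g : G, (trivialIrr G : G → ℂ) g = 1 from fun g => rfl] at h1 h2
    obtain ⟨q1, q2⟩ := int_eq_of_omega hω (a := v0 (trivialIrr G) - 1) (b := v1 (trivialIrr G))
      (c := v2 (trivialIrr G)) (by push_cast; linear_combination -h2)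
    have h1' : v0 (trivialIrr G) + v1 (trivialIrr G) + v2 (trivialIrr G) = 1 := by
      exact_mod_cast h1.symm
    omega
  -- degrees
  choose x hx using fun χ : IrrCharacter G => IsChar.one_eq_nat (IsIrr.isCharacter χ.2)
  have hpp : ∀ c : C, ¬ 2 ∣ orderOf c → IsPPart 2 (t * (c : G)) t := fun c hc =>
    ⟨(c : G), rfl, (Subgroup.mem_centralizer_singleton_iff.1 c.2).symm, hz,
      by rwa [Subgroup.orderOf_coe]⟩
  set X0 := ∑ χ ∈ B, v0 χ * (x χ : ℤ) with hX0
  set X1 := ∑ χ ∈ B, v1 χ * (x χ : ℤ) with hX1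
  set X2 := ∑ χ ∈ B, v2 χ * (x χ : ℤ) with hX2
  obtain ⟨hX01, hX12⟩ := int_eq_of_omega hω (a := X0) (b := X1) (c := X2) (by
    rw [← horth (t * a) (hpp aC (hreg aC (Subgroup.mem_zpowers _)))]
    simp only [hX0, hX1, hX2, Int.cast_sum, Int.cast_mul, Int.cast_natCast, Finset.mul_sum,
      ← Finset.sum_add_distrib]
    refine Finset.sum_congr rfl fun χ hχ => ?_
    rw [(hv χ hχ).2.1, hx χ]
    ring)
  have hXsum : X0 + X1 + X2 = 0 := by
    have h : ((X0 + X1 + X2 : ℤ) : ℂ) = 0 := by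
      rw [← horth t (isPPart_self_of_pPow hz)]
      simp only [hX0, hX1, hX2, Int.cast_add, Int.cast_sum, Int.cast_mul, Int.cast_natCast,
        ← Finset.sum_add_distrib]
      refine Finset.sum_congr rfl fun χ hχ => ?_
      rw [(hv χ hχ).1, hx χ]
      ring
    exact_mod_cast h
  have hxt : x (trivialIrr G) = 1 := by
    have := hx (trivialIrr G)
    rw [show (trivialIrr G : G → ℂ) 1 = 1 from rfl] at this
    exact_mod_cast this.symm
  set y0 := fun f : IrrCharacter G → ℤ => ∑ χ ∈ B,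
    ((v0 χ + v1 χ + v2 χ : ℤ) : ℝ) ^ 2 * (f χ : ℝ) / (x χ : ℝ) with hy0
  obtain ⟨hy01, hy12⟩ := real_eq_of_omega hω (a := y0 v0) (b := y0 v1) (c := y0 v2) (by
    rw [← hprod]
    simp only [hy0, Complex.ofReal_sum, Complex.ofReal_div, Complex.ofReal_mul, Complex.ofReal_pow,
      Complex.ofReal_intCast, Complex.ofReal_natCast, Finset.mul_sum, ← Finset.sum_add_distrib]
    refine Finset.sum_congr rfl fun χ hχ => ?_
    rw [(hv χ hχ).1, (hv χ hχ).2.1, hx χ]
    push_cast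
    ring)
  refine no_config B htriv v0 v1 v2 (fun χ => (x χ : ℝ)) h0e h1e h2e (by rw [hxt, Nat.cast_one])
    (by omega) (by omega) (by omega) (by omega) (by omega) (by omega) ?_ ?_ ?_ ?_
  · exact_mod_cast (show X1 = 0 by omega)
  · exact_mod_cast (show X2 = 0 by omega)
  · intro χ hχ hne
    set σ := v0 χ + v1 χ + v2 χ with hσ
    have hσc : (χ : G → ℂ) t = (σ : ℂ) := by rw [(hv χ hχ).1, hσ]; push_cast; rfl
    obtain ⟨m, hm, hle⟩ := degree_relation (S : Subgroup G) hS8 (t := t) hfus (hx χ) hσc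
    have hx0 : x χ ≠ 0 := fun h => irr_one_ne_zero χ (by rw [hx χ, h, Nat.cast_zero])
    have hlt : σ ≠ x χ := fun h => hne (eq_trivial_of_ker χ ht1 (by rw [hσc, hx χ, h]; norm_cast))
    refine ⟨by exact_mod_cast Nat.pos_of_ne_zero hx0, fun h => ?_, fun h => ?_⟩
    · have h1 : σ = 1 ∨ σ = -1 := sq_eq_one_iff.1 h
      exact_mod_cast (show (7 : ℕ) ≤ x χ by omega)
    · have h1 : σ = 2 ∨ σ = -2 := sq_eq_sq_iff_eq_or_eq_neg.1 (h.trans (by norm_num))
      exact_mod_cast (show (10 : ℕ) ≤ x χ by omega)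
  · calc _ = y0 v0 - y0 v1 := by
          simp only [hy0, ← Finset.sum_sub_distrib]
          refine Finset.sum_congr rfl fun χ _ => ?_
          push_cast
          ring
      _ = 0 := by rw [hy01, sub_self]

end Cfsg.Agent.Block.ElemEight
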